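import Cfsg.Agent.Omega.NO3b.ZP.TwoFac
import Cfsg.Agent.Omega.NOThreeL.HypGFrame

/-!
# The local exit for the seed `Z ≤ Ω₁(Z(S))` (`NOThreeL/HypGFrame.lean`)

* `Root.L_le_norm` : `L` normalises every weakly closed subgroup of `S` in `C_S(⟨Z^L⟩)`;
* `LocG S Z M B` : `B` admissible, `|V|` maximal, `V = VB Z B`, `C_G(zc S) ≰ N_G(V)`, and for all panels
  (`Fl S V F T`, `Z ≤ F`, `Par S V F T X`) `⟨N_G(B), X⟩` is 2-local and some `A ≤ B`, `A ≰ O₂(X)`, offends on `⟨V^X⟩`;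
* `exists_locG` : `LocG` exists for `Root S Z M`, `⟨Z^M⟩ ≤ O₂(C_G(Z))`, `⟨M, C_G(zc S)⟩` not 2-local.
-/

set_option autoImplicit false
set_option linter.unusedSectionVars false

namespace Cfsg.Agent.Omega.NO3b.ZP

open Subgroup Cfsg
open Cfsg.Agent.ZN (o2 zc)
open Cfsg.Agent.ZN.ChoiceBase hiding mem_zc
open Cfsg.Agent.Omega.NO3b.EZero (NotFF cl le_cl cj_le_cl cl_le le_normalizer_cl)
open Cfsg.Agent.Omega.FFThm (OffM)
open Cfsg.Agent.Omega.NO3b.Wc (WC StmtOff)
open Cfsg.Agent.Omega.NO3b.Exit (wc_S_le char2_of_loc)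

universe u

variable {G : Type u} [Group G] [Finite G] {S : Sylow 2 G} {Z : Subgroup G}

/-- `L` normalises every weakly closed subgroup of `S` in `C_S(⟨Z^L⟩)`. -/
theorem Root.L_le_norm {L B : Subgroup G} (h : Root S Z L) (hB : WC (S : Subgroup G) B)
    (hle : B ≤ QL (S : Subgroup G) Z L) : L ≤ normalizer (B : Set G) := by
  intro l hl
  rw [mem_normalizer_iff_cj]
  refine hB.eq l ?_
  have h1 := cj_mono l hle
  have h2 : cj l (QL (S : Subgroup G) Z L) = QL (S : Subgroup G) Z L := cj_eq_of_mem_normalizer (h.cs hl)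
  rw [h2] at h1
  exact h1.trans inf_le_left

/-- **The local exit.** -/
structure LocG (S : Sylow 2 G) (Z M B : Subgroup G) : Prop where
  adm : Adm S Z M B
  max : ∀ B' : Subgroup G, Adm S Z M B' → Nat.card (VB Z B') ≤ Nat.card (VB Z B)
  min : ∀ B' : Subgroup G, Adm S Z M B' → B' ≤ B → B' = B
  le : M ≤ normalizer (B : Set G)
  nz : ¬ centralizer (zc (S : Subgroup G) : Set G) ≤ normalizer (VB Z B : Set G)
  ex : ∃ F T X : Subgroup G, Fl S (VB Z B) F T ∧ Z ≤ F ∧ Par S (VB Z B) F T X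
  loc : ∀ F T X : Subgroup G, Fl S (VB Z B) F T → Z ≤ F → Par S (VB Z B) F T X →
    ∃ R : Subgroup G, R ≠ ⊥ ∧ IsPGroup 2 R ∧ normalizer (B : Set G) ⊔ X ≤ normalizer (R : Set G)
  fr : ∀ F T X : Subgroup G, Fl S (VB Z B) F T → Z ≤ F → Par S (VB Z B) F T X →
    Fr S Z B (normalizer (B : Set G) ⊔ X) X T
  off : ∀ F T X : Subgroup G, Fl S (VB Z B) F T → Z ≤ F → Par S (VB Z B) F T X →
    ∃ A : Subgroup G, A ≤ B ∧ ¬ A ≤ o2 X ∧ OffM (cl (VB Z B) X) A

/-- **The frame ends in the local exit.** -/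
theorem exists_locG (hG : IsCharacteristicTwoType G) (hSne : (S : Subgroup G) ≠ ⊥) {M : Subgroup G}
    (r : Root S Z M) (hz : cl Z M ≤ o2 (centralizer (Z : Set G)))
    (hnl : ∀ R : Subgroup G, R ≠ ⊥ → IsPGroup 2 R → M ≤ normalizer (R : Set G) →
      ¬ centralizer (zc (S : Subgroup G) : Set G) ≤ normalizer (R : Set G)) : ∃ B, LocG S Z M B := by
  have hOff := NO3b.Final.stmtOff G
  obtain ⟨B, a, hmax⟩ := Set.exists_max_image {B : Subgroup G | Adm S Z M B}
    (fun B => Nat.card (VB Z B)) (Set.toFinite _)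
    ⟨_, Adm.of_root r (r.low hG hOff hz)⟩
  have hmin : ∀ B' : Subgroup G, Adm S Z M B' → B' ≤ B → B' = B := by
    intro B' a' hle
    have h1 : normalizer (B : Set G) ≤ normalizer (B' : Set G) := by
      intro g hg
      rw [mem_normalizer_iff_cj]
      refine a'.wc.eq g ?_
      have h2 := cj_mono g hle
      rw [cj_eq_of_mem_normalizer hg] at h2
      exact h2.trans a.wc.le
    have h2 : VB Z B = VB Z B' :=
      eq_of_le_of_card_ge (cl_mono _ h1) (hmax B' a')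
    rw [← a'.cs, ← a.cs, h2]
  have hLB := r.L_le_norm a.wc a.le
  have hnz : ¬ centralizer (zc (S : Subgroup G) : Set G) ≤ normalizer (VB Z B : Set G) :=
    hnl _ (fun h0 => a.Zne (le_bot_iff.1 ((le_cl _ _).trans h0.le))) (NO3b.NoEmp.pgroup_of_sq a.sq)
      (hLB.trans (le_normalizer_cl _ _))
  have hloc : ∀ F T X : Subgroup G, Fl S (VB Z B) F T → Z ≤ F → Par S (VB Z B) F T X →
      ∃ R : Subgroup G, R ≠ ⊥ ∧ IsPGroup 2 R ∧ normalizer (B : Set G) ⊔ X ≤ normalizer (R : Set G) := by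
    intro F T X f hZF p
    obtain ⟨R, h1, h2, h3, h4⟩ := exists_loc f a.lines FFBr.aStmt FFBr.ffthm hG hZF p
    rw [a.cs] at h3
    exact ⟨R, h1, h2, sup_le h3 h4⟩
  have hfr : ∀ F T X : Subgroup G, Fl S (VB Z B) F T → Z ≤ F → Par S (VB Z B) F T X →
      Fr S Z B (normalizer (B : Set G) ⊔ X) X T := by
    intro F T X f hZF p
    obtain ⟨R, hR, hR2, h3⟩ := hloc F T X f hZF p
    have hQ := f.Q0_le
    rw [a.cs] at hQ
    exact
      { NB := le_sup_left
        XH := le_sup_right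
        gen := le_rfl
        char2 := char2_of_loc hG ((wc_S_le a.wc).trans le_sup_left) hR2 hR h3
        TS := f.T_le
        BT := hQ
        syl := f.sylX p
        mp := f.isMinPar a.lines p
        XZ := p.cz
        XZ' := p.le.trans (centralizer_le hZF)
        nle := p.nle }
  obtain ⟨F, T, f, hZF⟩ := exists_fl_zc a.lines hnz
  obtain ⟨X, p⟩ := f.exists_par
  exact ⟨B, a, hmax, hmin, hLB, hnz, ⟨F, T, X, f, hZF, p⟩, hloc, hfr, fun F T X f hZF p =>
    (hfr F T X f hZF p).exists_off a hG hOff hSne hmin⟩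

end Cfsg.Agent.Omega.NO3b.ZP
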