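import Cfsg.Agent.Omega.NO3b.ZP.LocG
import Cfsg.Agent.Omega.NO3b.Exit.AllLocal

/-!
# All panels together are local, for the seed `Z ≤ Ω₁(Z(S))` (`Exit/AllLocal.lean`)

* `LinesZ.comm_semi` : LEMMA SM (`SemiMut.lean`); `sm` : LEMMA SM for a panel over `LinesZ`;
* `exists_loc_fam` : a nonempty family of panels `(F, T, X)` with two noncentral factors each: some nontrivial
  2-subgroup is normalised by `N_G(C_S(V))` and all `X`;
* `LocG.two` : (C2) for all panels of `LocG`, `LocG.exists_optY`; `LocG.all_loc` : `⟨N_G(B), all X⟩` is 2-local.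
-/

set_option autoImplicit false
set_option linter.unusedSectionVars false

namespace Cfsg.Agent.Omega.NO3b.ZP

open Subgroup Cfsg
open Cfsg.Agent.ZN (o2 zc zl jj zj)
open Cfsg.Agent.ZN.ChoiceBase hiding mem_zc
open Cfsg.Agent.Omega.NO3b.EZero (NotFF cl le_cl cj_le_cl cl_le le_normalizer_cl)
open Cfsg.Agent.Omega.NOThreeL.Star (Opt)
open Cfsg.Agent.Omega.NO3b.K0 (NoOv FullOff)
open Cfsg.Agent.Omega.NO3b.K0.Mix (Pan Two Fam SM)

universe u

variable {G : Type u} [Group G] [Finite G] {S : Sylow 2 G} {Z : Subgroup G}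

namespace LinesZ

open scoped commutatorElement
open Cfsg.Agent.Omega.NO3b.EZero (cent_symm)
open Cfsg.Agent.Omega.NO3b.NoEmp (comm_mem norm_iff le_o2_of)

variable {J V : Subgroup G} (h : LinesZ S Z J V)
  (hc : ∀ D : Subgroup G, D ≤ V → D ≠ ⊥ →
      centralizer (D : Set G) ⊓ centralizer (o2 (centralizer (D : Set G)) : Set G) ≤
        o2 (centralizer (D : Set G)))
include h hc

/-- **LEMMA SM.** -/
theorem comm_semi {X U : Subgroup G} (hXU : X ≤ normalizer (U : Set G))
    (hUc : U ≤ centralizer (U : Set G)) (hU2 : ∀ u ∈ U, u ^ 2 = 1) {B : Set G}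
    (hUB : U = ⨆ b ∈ B, cj b V) (hoB : ∀ b ∈ B, o2 X ≤ normalizer ((cj b V : Subgroup G) : Set G))
    {a : G} (haX : cj a V ≤ X) (hUa : U ≤ normalizer ((cj a V : Subgroup G) : Set G)) :
    cj a V ≤ centralizer (U : Set G) := by
  have hBU : ∀ b ∈ B, cj b V ≤ U := fun b hb => by rw [hUB]; exact le_biSup (fun b => cj b V) hb
  -- `V₀ = V^a ∩ O₂(X)` centralises `U`
  have h0 : cj a V ⊓ o2 X ≤ centralizer (U : Set G) := by
    refine cent_symm ?_
    rw [hUB]
    refine iSup₂_le fun b hb => ?_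
    by_cases hI : cj a V ⊓ cj b V = ⊥
    · intro w hw
      rw [mem_centralizer_iff]
      intro v hv
      have h1 : ⁅v, w⁆ ∈ cj a V ⊓ cj b V := by
        refine ⟨?_, ?_⟩
        · have h2 := hUa (hBU b hb hw)
          have e : ⁅v, w⁆ = v * (w * v⁻¹ * w⁻¹) := by simp only [commutatorElement_def]; group
          rw [e]
          exact (cj a V).mul_mem hv.1 (norm_iff h2 ((cj a V).inv_mem hv.1))
        · have h2 := hoB b hb hv.2
          rw [commutatorElement_def]
          exact (cj b V).mul_mem (norm_iff h2 hw) ((cj b V).inv_mem hw)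
      rw [hI, mem_bot, commutatorElement_eq_one_iff_mul_comm] at h1
      exact h1
    · have h1 := h.comm_of_inter hc hI
      exact (cent_symm h1).trans (centralizer_le inf_le_left)
  by_cases hI : cj a V ⊓ U = ⊥
  · intro v hv
    rw [mem_centralizer_iff]
    intro w hw
    have h1 := comm_mem hUa (haX.trans hXU) hv hw
    rw [hI, mem_bot, commutatorElement_eq_one_iff_mul_comm] at h1
    exact h1.symm
  · have h1 : cj a V ≤ o2 X := by
      refine le_o2_of (D := ⊥) (U := U) haX ?_ (h.cj_sq a) ?_ hU2 hXU hUa bot_le bot_le ?_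
        (fun h1 => hI (le_bot_iff.1 h1)) h0 (h.nff.cj a) ?_
      · exact fun y hy z hz => ((mem_centralizer_iff.1 (h.cj_comm a hy)) z hz).symm
      · exact fun y hy z hz => ((mem_centralizer_iff.1 (hUc hy)) z hz).symm
      · intro y _
        rw [mem_centralizer_iff]
        intro d hd
        rw [mem_bot.1 hd, one_mul, mul_one]
      · intro y hy z hz hyz
        rw [cj_cj, cj_cj] at hyz ⊢
        by_contra h2
        exact hyz (h.comm_of_inter hc (fun h3 => h2 h3.le))
    exact (le_inf le_rfl h1).trans h0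

end LinesZ

/-- LEMMA SM for a panel. -/
theorem sm {J V F T X L Q0 : Subgroup G} (h : LinesZ S Z J V) (hG : IsCharacteristicTwoType G)
    (k : Pan V F T X L Q0) : SM V X := by
  intro g hg hU
  refine h.comm_semi (h.char2 hG) (X := X) (U := cl V X) (le_normalizer_cl V X) k.U_comm k.U_sq
    (B := (X : Set G)) ?_ (fun b hb => k.o2_norm_line hb) hg hU
  apply le_antisymm
  · exact cl_le fun x hx => le_biSup (fun b => cj b V) hx
  · exact iSup₂_le fun b hb => cj_le_cl hb

/-- **The panels of a nonempty family with two noncentral factors each generate a local group with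
`N_G(C_S(V))`.** -/
theorem exists_loc_fam {ι : Type*} [Nonempty ι] {J V : Subgroup G} (hA : FFBr.AStmt.{u})
    (hG : IsCharacteristicTwoType G) (h : LinesZ S Z J V) (F T X : ι → Subgroup G)
    (f : ∀ i, Fl S V (F i) (T i)) (p : ∀ i, Par S V (F i) (T i) (X i)) (h2 : ∀ i, Two V (X i)) :
    ∃ R : Subgroup G, R ≠ ⊥ ∧ IsPGroup 2 R ∧
      normalizer (((S : Subgroup G) ⊓ centralizer (V : Set G) : Subgroup G) : Set G) ≤ normalizer (R : Set G) ∧
      ∀ i, X i ≤ normalizer (R : Set G) := by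
  by_contra hcon
  have hpan : ∀ i, Pan V (F i) (T i) (X i)
      (normalizer (((S : Subgroup G) ⊓ centralizer (V : Set G) : Subgroup G) : Set G))
      ((S : Subgroup G) ⊓ centralizer (V : Set G)) := fun i =>
    pan (f i) h (p i) fun g hg => ti hG h g hg
  have hfam : Fam V (normalizer (((S : Subgroup G) ⊓ centralizer (V : Set G) : Subgroup G) : Set G))
      ((S : Subgroup G) ⊓ centralizer (V : Set G)) F T X := by
    refine ⟨hpan, fun R hR h1 h3 => ?_⟩
    by_contra hne
    exact hcon ⟨R, hne, hR, h1, h3⟩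
  exact hfam.absurd (fun i => K0.noOv hA ((f i).sylX (p i)) ((f i).isMinPar h (p i)))
    (fun i => sm h hG (hpan i)) h2

namespace LocG

variable {M B : Subgroup G} (h : LocG S Z M B)
include h

/-- **(C2)** -/
theorem two (hG : IsCharacteristicTwoType G) (hSne : (S : Subgroup G) ≠ ⊥) {F T X : Subgroup G}
    (f : Fl S (VB Z B) F T) (hZF : Z ≤ F) (p : Par S (VB Z B) F T X) : Two (VB Z B) X :=
  (h.fr F T X f hZF p).two h.adm f p FFBr.aStmt FFBr.ffthm hG (NO3b.Final.stmtOff G) hSne h.min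

/-- an optimal offender of `⟨V^⟨S,X⟩⟩` -/
theorem exists_optY (hG : IsCharacteristicTwoType G) (hSne : (S : Subgroup G) ≠ ⊥) {F T X : Subgroup G}
    (f : Fl S (VB Z B) F T) (hZF : Z ≤ F) (p : Par S (VB Z B) F T X) :
    ∃ A, Opt (cl (VB Z B) ((S : Subgroup G) ⊔ X)) A ∧ A ≤ B ∧ ¬ A ≤ o2 X :=
  (h.fr F T X f hZF p).exists_optY h.adm hG (NO3b.Final.stmtOff G) hSne h.min

/-- **`⟨N_G(B), all X⟩` is 2-local.** -/
theorem all_loc (hG : IsCharacteristicTwoType G) (hSne : (S : Subgroup G) ≠ ⊥) :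
    ∃ R : Subgroup G, R ≠ ⊥ ∧ IsPGroup 2 R ∧ normalizer (B : Set G) ≤ normalizer (R : Set G) ∧
      ∀ F T X : Subgroup G, Fl S (VB Z B) F T → Z ≤ F → Par S (VB Z B) F T X → X ≤ normalizer (R : Set G) := by
  let ι := {t : Subgroup G × Subgroup G × Subgroup G // Fl S (VB Z B) t.1 t.2.1 ∧
    Z ≤ t.1 ∧ Par S (VB Z B) t.1 t.2.1 t.2.2}
  obtain ⟨F, T, X, f, hZ, p⟩ := h.ex
  have : Nonempty ι := ⟨⟨(F, T, X), f, hZ, p⟩⟩
  obtain ⟨R, h1, h2, h3, h4⟩ := exists_loc_fam (ι := ι) FFBr.aStmt hG h.adm.lines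
    (fun t => t.1.1) (fun t => t.1.2.1) (fun t => t.1.2.2) (fun t => t.2.1) (fun t => t.2.2.2)
    (fun t => h.two hG hSne t.2.1 t.2.2.1 t.2.2.2)
  rw [h.adm.cs] at h3
  exact ⟨R, h1, h2, h3, fun F T X f hZ p => h4 ⟨(F, T, X), f, hZ, p⟩⟩

end LocG

end Cfsg.Agent.Omega.NO3b.ZP
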