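import Cfsg.Agent.Omega.NO3b.NoEmp

/-!
# The frame of NotFF for a subgroup `Z` of `Ω₁(Z(S))` (socket RBz of NO-3L): THEOREM TI

`NoEmp.Lines` with `zc S` replaced by a subgroup `1 ≠ Z ≤ Ω₁(Z(S))`, `V ≤ O₂(C_G(Z))`.
-/

set_option autoImplicit false

namespace Cfsg.Agent.Omega.NO3b.ZP

open Subgroup Cfsg Cfsg.Agent.ZN.ChoiceBase Cfsg.Agent.ZN.ChoiceSit
open Cfsg.Agent.ZN (o2 zc zl zj jj)
open Cfsg.Agent.MinSimple.EmptyTI (syl_of_le)
open Cfsg.Agent.Omega.NO3b.EZero (NotFF comm_of_norm cent_symm cj_cent cj_norm cj_eq_cj_iff mem_cj_self)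
open Cfsg.Agent.Omega.NO3b.NoEmp (norm_iff norm_iff' comm_mem pgroup_of_sq exists_swap surj_of le_o2_of)
open scoped commutatorElement

universe u

variable {G : Type u} [Group G]

/-! ### Lines -/

/-- `V` is not FF, `J ≤ C_S(V)` is weakly closed in `S`, `N_G(J) ≤ N_G(V)`, `Ω₁(Z(S)) ≤ V ≤ O₂(C_G(Ω₁(Z(S))))`.
The lines are the conjugates of `V`. -/
structure LinesZ [Finite G] (S : Sylow 2 G) (Z J V : Subgroup G) : Prop where
  JS : J ≤ (S : Subgroup G)
  wc : ∀ g : G, cj g J ≤ (S : Subgroup G) → cj g J = J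
  NJ : normalizer (J : Set G) ≤ normalizer (V : Set G)
  JV : J ≤ centralizer (V : Set G)
  comm : V ≤ centralizer (V : Set G)
  sq : ∀ v ∈ V, v ^ 2 = 1
  Zne : Z ≠ ⊥
  Zc : Z ≤ zc (S : Subgroup G)
  ZV : Z ≤ V
  nff : NotFF V
  low : V ≤ o2 (centralizer (Z : Set G))

namespace LinesZ

variable [Finite G] {S : Sylow 2 G} {Z J V : Subgroup G} (h : LinesZ S Z J V)
include h

theorem S_cent : (S : Subgroup G) ≤ centralizer (Z : Set G) := by
  intro s hs
  rw [mem_centralizer_iff]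
  exact fun z hz => ((mem_zc.1 (h.Zc hz)).2.2 s hs).symm

theorem S_le_NJ : (S : Subgroup G) ≤ normalizer (J : Set G) := by
  intro s hs
  rw [mem_normalizer_iff_cj]
  refine h.wc s ?_
  have h1 := cj_mono s h.JS
  rwa [cj_eq_of_mem_normalizer (Subgroup.le_normalizer hs)] at h1

theorem S_le : (S : Subgroup G) ≤ normalizer (V : Set G) := h.S_le_NJ.trans h.NJ

theorem mul_comm' : ∀ a ∈ V, ∀ b ∈ V, a * b = b * a := fun _ ha b hb =>
  ((mem_centralizer_iff.1 (h.comm ha)) b hb).symm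

theorem cj_comm (g : G) : cj g V ≤ centralizer ((cj g V : Subgroup G) : Set G) := cj_cent h.comm

theorem cj_sq (g : G) : ∀ v ∈ cj g V, v ^ 2 = 1 := by
  intro v hv
  have h1 := h.sq _ (mem_cj.1 hv)
  have e : v ^ 2 = g * (g⁻¹ * v * g) ^ 2 * g⁻¹ := by rw [pow_two, pow_two]; group
  rw [e, h1]; group

/-- Two lines which normalise each other commute. -/
theorem comm_lines {a b : G} (h1 : cj a V ≤ normalizer ((cj b V : Subgroup G) : Set G))
    (h2 : cj b V ≤ normalizer ((cj a V : Subgroup G) : Set G)) :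
    cj a V ≤ centralizer ((cj b V : Subgroup G) : Set G) :=
  comm_of_norm (h.nff.cj a) (h.nff.cj b) (h.cj_sq a) (h.cj_sq b) (h.cj_comm a) (h.cj_comm b) h1 h2

/-- Sylow control: a 2-group `T ≥ J^a` lies in a Sylow 2-subgroup `S^l` with `J^l = J^a`, `V^l = V^a`. -/
theorem exists_point {T : Subgroup G} (hT : IsPGroup 2 T) {a : G} (ha : cj a J ≤ T) :
    ∃ l : G, T ≤ cj l (S : Subgroup G) ∧ cj l J = cj a J ∧ cj l V = cj a V := by
  obtain ⟨S', hS'⟩ := hT.exists_le_sylow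
  obtain ⟨l, hl⟩ := MulAction.exists_smul_eq G S S'
  have hl2 : (S' : Subgroup G) = cj l (S : Subgroup G) := by
    rw [← hl, Sylow.coe_subgroup_smul]; rfl
  rw [hl2] at hS'
  have h1 : cj (l⁻¹ * a) J ≤ (S : Subgroup G) := by
    have h2 := cj_mono l⁻¹ (ha.trans hS')
    rwa [cj_cj, cj_inv_cj] at h2
  have h2 := h.wc _ h1
  have h3 : l⁻¹ * a ∈ normalizer (J : Set G) := mem_normalizer_iff_cj.2 h2
  have h4 := h.NJ h3
  exact ⟨l, hS', (cj_eq_cj_iff.2 h3).symm, (cj_eq_cj_iff.2 h4).symm⟩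

theorem le_norm_of {T : Subgroup G} (hT : IsPGroup 2 T) {a : G} (ha : cj a J ≤ T) :
    T ≤ normalizer ((cj a V : Subgroup G) : Set G) := by
  obtain ⟨l, h1, -, h3⟩ := h.exists_point hT ha
  rw [← h3]
  exact h1.trans (cj_norm h.S_le)

/-- Two lines whose `J`'s lie in `X` are conjugate in `X`. -/
theorem exists_conj {X : Subgroup G} {a b : G} (ha : cj a J ≤ X) (hb : cj b J ≤ X) :
    ∃ x ∈ X, cj x (cj a V) = cj b V := by
  have hJ2 : IsPGroup 2 J := S.isPGroup'.to_le h.JS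
  obtain ⟨T₁, hT₁, h1⟩ := exists_syl (isPGroup_cj a hJ2) ha
  obtain ⟨T₂, hT₂, h2⟩ := exists_syl (isPGroup_cj b hJ2) hb
  obtain ⟨x, hx, hxT⟩ := syl_conj hT₁ hT₂
  obtain ⟨l, hl, hlJ, hlV⟩ := h.exists_point hT₂.2.1 h2
  have h3 : cj (x * a) J ≤ T₂ := by
    rw [← cj_cj, ← hxT]; exact cj_mono x h1
  have h4 : cj (l⁻¹ * (x * a)) J ≤ (S : Subgroup G) := by
    have h5 := cj_mono l⁻¹ (h3.trans hl)
    rwa [cj_cj, cj_inv_cj] at h5
  have h6 : l⁻¹ * (x * a) ∈ normalizer (V : Set G) := h.NJ (mem_normalizer_iff_cj.2 (h.wc _ h4))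
  refine ⟨x, hx, ?_⟩
  rw [cj_cj, cj_eq_cj_iff.2 h6, hlV]

theorem o2_le_norm {X : Subgroup G} {a x : G} (ha : cj a J ≤ X) (hx : x ∈ X) :
    o2 X ≤ normalizer ((cj (x * a) V : Subgroup G) : Set G) := by
  have hJ2 : IsPGroup 2 J := S.isPGroup'.to_le h.JS
  obtain ⟨T₁, hT₁, h1⟩ := exists_syl (isPGroup_cj a hJ2) ha
  have h2 := (o2_le_syl hT₁).trans (h.le_norm_of hT₁.2.1 h1)
  have h3 := cj_norm (g := x) h2
  rwa [cj_cj, cj_eq_of_mem_normalizer (le_normalizer_o2 X hx)] at h3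

/-- The part common to TI and (*): `C_V(T) ≤ Ω₁Z(O₂(X))` contains a point. -/
theorem exists_point_le {X : Subgroup G} (hX : X ⊓ centralizer (o2 X : Set G) ≤ o2 X)
    {a : G} (haJ : cj a J ≤ X) (haV : cj a V ≤ X) :
    ∃ l : G, cj l V = cj a V ∧ o2 X ≤ cj l (S : Subgroup G) ∧ cj l Z ≤ zc (o2 X) := by
  have hJ2 : IsPGroup 2 J := S.isPGroup'.to_le h.JS
  obtain ⟨T, hT, h1⟩ := exists_syl (isPGroup_cj a hJ2) haJ
  obtain ⟨l, hl, hlJ, hlV⟩ := h.exists_point hT.2.1 h1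
  have ho : o2 X ≤ cj l (S : Subgroup G) := (o2_le_syl hT).trans hl
  refine ⟨l, hlV, ho, ?_⟩
  intro z hz
  have hz' := mem_zc.1 (h.Zc (mem_cj.1 hz))
  have hzc : ∀ y ∈ o2 X, y * z = z * y := by
    intro y hy
    have h2 := hz'.2.2 _ (mem_cj.1 (ho hy))
    have e1 : y * z = l * ((l⁻¹ * y * l) * (l⁻¹ * z * l)) * l⁻¹ := by group
    have e2 : z * y = l * ((l⁻¹ * z * l) * (l⁻¹ * y * l)) * l⁻¹ := by group
    rw [e1, e2, h2]
  have hzV : z ∈ cj a V := by
    rw [← hlV]; exact cj_mono l h.ZV hz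
  exact mem_zc.2 ⟨hX ⟨haV hzV, mem_centralizer_iff.2 hzc⟩, h.cj_sq a z hzV, hzc⟩

omit h [Finite G] in
theorem zc_data {X : Subgroup G} : (∀ a ∈ zc (o2 X), ∀ b ∈ zc (o2 X), a * b = b * a) ∧
    (∀ a ∈ zc (o2 X), a ^ 2 = 1) ∧ zc (o2 X) ≤ o2 X ∧
    X ≤ normalizer ((zc (o2 X) : Subgroup G) : Set G) ∧
    o2 X ≤ centralizer ((zc (o2 X) : Subgroup G) : Set G) := by
  refine ⟨fun a ha b hb => ?_, fun a ha => (mem_zc.1 ha).2.1, fun a ha => (mem_zc.1 ha).1,
    (le_normalizer_o2 X).trans (Cfsg.Agent.MinSimple.VModule.normalizer_le_normalizer_zc _), ?_⟩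
  · exact (mem_zc.1 hb).2.2 a (mem_zc.1 ha).1
  · intro y hy
    rw [mem_centralizer_iff]
    exact fun z hz => ((mem_zc.1 hz).2.2 y hy).symm

/-- **THEOREM TI** (helper58): two lines which meet nontrivially commute. -/
theorem comm_of_inter (hc : ∀ D : Subgroup G, D ≤ V → D ≠ ⊥ →
      centralizer (D : Set G) ⊓ centralizer (o2 (centralizer (D : Set G)) : Set G) ≤
        o2 (centralizer (D : Set G)))
    {a b : G} (hD : cj a V ⊓ cj b V ≠ ⊥) : cj a V ≤ centralizer ((cj b V : Subgroup G) : Set G) := by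
  by_contra hcon
  -- a noncommuting pair `V, V^g` with `|V ∩ V^g|` maximal
  obtain ⟨g, hg, hmax⟩ := Set.exists_max_image {g : G | ¬ V ≤ centralizer ((cj g V : Subgroup G) : Set G)}
    (fun g => Nat.card (V ⊓ cj g V : Subgroup G)) (Set.toFinite _)
    ⟨a⁻¹ * b, fun h0 => hcon (by
      have h1 := cj_cent (g := a) h0
      rwa [cj_cj, mul_inv_cancel_left] at h1)⟩
  have hmax' : ∀ a b : G, ¬ cj a V ≤ centralizer ((cj b V : Subgroup G) : Set G) →
      Nat.card (cj a V ⊓ cj b V : Subgroup G) ≤ Nat.card (V ⊓ cj g V : Subgroup G) := by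
    intro a b hab
    have h1 := hmax (a⁻¹ * b) (fun h0 => hab (by
      have h1 := cj_cent (g := a) h0
      rwa [cj_cj, mul_inv_cancel_left] at h1))
    have e : cj a V ⊓ cj b V = cj a (V ⊓ cj (a⁻¹ * b) V) := by
      rw [cj_inf, cj_cj, mul_inv_cancel_left]
    rw [e, card_cj]
    exact h1
  set D : Subgroup G := V ⊓ cj g V with hDdef
  have hD1 : D ≠ ⊥ := by
    intro h0
    have h1 := hmax' a b hcon
    rw [h0] at h1
    have h2 : Nat.card (⊥ : Subgroup G) = 1 := by simp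
    rw [h2] at h1
    exact hD (Subgroup.card_eq_one.1 (le_antisymm h1 Nat.card_pos))
  set X : Subgroup G := centralizer (D : Set G) with hXdef
  have hX := hc D inf_le_left hD1
  rw [← hXdef] at hX
  have hDV : D ≤ V := inf_le_left
  have hVX : V ≤ X := h.comm.trans (centralizer_le hDV)
  have hJX : cj 1 J ≤ X := by rw [cj_one]; exact h.JV.trans (centralizer_le hDV)
  have hJgX : cj g J ≤ X := (cj_cent h.JV).trans (centralizer_le inf_le_right)
  have hDX : X ≤ centralizer (D : Set G) := le_rfl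
  obtain ⟨x, hx, hxV⟩ := h.exists_conj hJX hJgX
  rw [cj_one] at hxV
  -- conjugation inside `X` fixes `D`
  have hDc : ∀ y ∈ X, D ≤ cj y V := by
    intro y hy d hd
    rw [mem_cj]
    have h1 := mem_centralizer_iff.1 hy d hd
    have e : y⁻¹ * d * y = d := by rw [mul_assoc, h1, ← mul_assoc, inv_mul_cancel, one_mul]
    rw [e]; exact hDV hd
  have hnot : ¬ V ≤ o2 X := by
    intro h0
    apply hg
    have h1 := h.comm_lines (a := 1) (b := x) (by
      rw [cj_one]
      have h2 := h.o2_le_norm hJX hx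
      rw [mul_one] at h2
      exact h0.trans h2) (by
      have h2 := h.o2_le_norm hJX (one_mem X)
      rw [mul_one, cj_one] at h2
      rw [cj_one]
      have h3 := cj_mono x h0
      rw [cj_eq_of_mem_normalizer (le_normalizer_o2 X hx)] at h3
      exact h3.trans h2)
    rw [cj_one, hxV] at h1
    exact h1
  apply hnot
  obtain ⟨l, hlV, hlo, hlz⟩ := h.exists_point_le hX hJX (by rw [cj_one]; exact hVX)
  rw [cj_one] at hlV
  obtain ⟨hUc, hU2, hUo, hXU, hoU⟩ := zc_data (X := X)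
  have hoV : o2 X ≤ normalizer (V : Set G) := by
    have h2 := h.o2_le_norm hJX (one_mem X)
    rwa [mul_one, cj_one] at h2
  refine le_o2_of (D := D) (U := zc (o2 X)) hVX h.mul_comm' h.sq hUc hU2 hXU (hUo.trans hoV) hDV ?_ hDX ?_
    (inf_le_right.trans hoU) h.nff ?_
  · -- `D ≤ Ω₁Z(O₂(X))`
    intro d hd
    have h1 : ∀ y ∈ X, y * d = d * y := fun y hy => (mem_centralizer_iff.1 hy d hd).symm
    exact mem_zc.2 ⟨hX ⟨hVX (hDV hd), mem_centralizer_iff.2 fun y hy => h1 y (o2_le X hy)⟩,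
      h.sq d (hDV hd), fun y hy => h1 y (o2_le X hy)⟩
  · -- the point is not in `D`
    intro h0
    have hZD : cj l Z ≤ D := by
      refine le_trans (le_inf ?_ hlz) h0
      have h1 := cj_mono l h.ZV
      rwa [hlV] at h1
    have hXC : X ≤ cj l (centralizer (Z : Set G)) := by
      rw [cj_centralizer]; exact centralizer_le hZD
    have hV1 : V ≤ cj l (o2 (centralizer (Z : Set G))) := by
      have h1 := cj_mono l h.low
      rwa [hlV] at h1
    have hN : cj l (o2 (centralizer (Z : Set G))) ≤ normalizer (V : Set G) := by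
      have h1 : o2 (centralizer (Z : Set G)) ≤ (S : Subgroup G) := o2_le_syl
        (syl_of_le (by
          intro s hs
          rw [mem_centralizer_iff]
          exact fun z hz => ((mem_zc.1 (h.Zc hz)).2.2 s hs).symm))
      have h2 := cj_norm (g := l) (h1.trans h.S_le)
      rwa [hlV] at h2
    have hxn : cj x (cj l (o2 (centralizer (Z : Set G)))) =
        cj l (o2 (centralizer (Z : Set G))) := by
      rw [← o2_cj]
      exact cj_eq_of_mem_normalizer (le_normalizer_o2 _ (hXC hx))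
    apply hg
    have h1 := h.comm_lines (a := 1) (b := x) (by
      rw [cj_one]
      have h2 := cj_norm (g := x) hN
      rw [hxn] at h2
      exact hV1.trans h2) (by
      rw [cj_one]
      have h3 := cj_mono x hV1
      rw [hxn] at h3
      exact h3.trans hN)
    rw [cj_one, hxV] at h1
    exact h1
  · intro y hy z hz hyz
    have h1 : D ≤ cj y V ⊓ cj z V := le_inf (hDc y hy) (hDc z hz)
    exact (eq_of_le_of_card_ge h1 (hmax' y z hyz)).symm.le

/-- **COROLLARY (*)**: `V^a ≤ O₂(X)` for every subgroup `X` of characteristic 2 which contains `J^a` and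
`V^a`. -/
theorem le_o2' (hc : ∀ D : Subgroup G, D ≤ V → D ≠ ⊥ →
      centralizer (D : Set G) ⊓ centralizer (o2 (centralizer (D : Set G)) : Set G) ≤
        o2 (centralizer (D : Set G)))
    {X : Subgroup G} (hX : X ⊓ centralizer (o2 X : Set G) ≤ o2 X) {a : G} (haJ : cj a J ≤ X)
    (haV : cj a V ≤ X) : cj a V ≤ o2 X := by
  obtain ⟨l, hlV, hlo, hlz⟩ := h.exists_point_le hX haJ haV
  obtain ⟨hUc, hU2, hUo, hXU, hoU⟩ := zc_data (X := X)
  have hoV : o2 X ≤ normalizer ((cj a V : Subgroup G) : Set G) := by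
    have h2 := h.o2_le_norm haJ (one_mem X)
    rwa [one_mul] at h2
  refine le_o2_of (D := ⊥) (U := zc (o2 X)) haV ?_ (h.cj_sq a) hUc hU2 hXU (hUo.trans hoV) bot_le bot_le
    ?_ ?_ (inf_le_right.trans hoU) (h.nff.cj a) ?_
  · exact fun y hy z hz => ((mem_centralizer_iff.1 (h.cj_comm a hy)) z hz).symm
  · intro y _
    rw [mem_centralizer_iff]
    intro d hd
    rw [mem_bot.1 hd, one_mul, mul_one]
  · intro h0
    have h1 : cj l Z ≤ ⊥ := by
      refine le_trans (le_inf ?_ hlz) h0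
      have h1 := cj_mono l h.ZV
      rwa [hlV] at h1
    apply h.Zne
    have h2 := cj_mono l⁻¹ h1
    rw [cj_inv_cj] at h2
    exact le_bot_iff.1 (h2.trans (Subgroup.map_bot _).le)
  · intro y hy z hz hyz
    rw [cj_cj, cj_cj] at hyz ⊢
    by_contra h0
    exact hyz (h.comm_of_inter hc (fun h1 => h0 h1.le))

/-- (*) for `X ≥ J, V`. -/
theorem le_o2 (hc : ∀ D : Subgroup G, D ≤ V → D ≠ ⊥ →
      centralizer (D : Set G) ⊓ centralizer (o2 (centralizer (D : Set G)) : Set G) ≤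
        o2 (centralizer (D : Set G)))
    {X : Subgroup G} (hX : X ⊓ centralizer (o2 X : Set G) ≤ o2 X) (hJ : J ≤ X) (hV : V ≤ X) :
    V ≤ o2 X := by
  have h1 := h.le_o2' hc hX (a := 1) (by rw [cj_one]; exact hJ) (by rw [cj_one]; exact hV)
  rwa [cj_one] at h1

/-- (*): the `X`-conjugates of `V` commute. -/
theorem comm_of_mem (hc : ∀ D : Subgroup G, D ≤ V → D ≠ ⊥ →
      centralizer (D : Set G) ⊓ centralizer (o2 (centralizer (D : Set G)) : Set G) ≤
        o2 (centralizer (D : Set G)))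
    {X : Subgroup G} (hX : X ⊓ centralizer (o2 X : Set G) ≤ o2 X) (hJ : J ≤ X) (hV : V ≤ X)
    {x y : G} (hx : x ∈ X) (hy : y ∈ X) : cj x V ≤ centralizer ((cj y V : Subgroup G) : Set G) := by
  have h1 := h.le_o2 hc hX hJ hV
  have h2 : ∀ z ∈ X, cj z V ≤ o2 X := fun z hz => by
    have h3 := cj_mono z h1
    rwa [cj_eq_of_mem_normalizer (le_normalizer_o2 X hz)] at h3
  have h3 : ∀ z ∈ X, o2 X ≤ normalizer ((cj z V : Subgroup G) : Set G) := fun z hz => by
    have h4 := h.o2_le_norm (a := 1) (by rw [cj_one]; exact hJ) hz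
    rwa [mul_one] at h4
  exact h.comm_lines ((h2 x hx).trans (h3 y hy)) ((h2 y hy).trans (h3 x hx))

/-- In a group of characteristic 2 type the hypothesis on `C_G(D)` holds. -/
theorem char2 (hG : IsCharacteristicTwoType G) : ∀ D : Subgroup G, D ≤ V → D ≠ ⊥ →
      centralizer (D : Set G) ⊓ centralizer (o2 (centralizer (D : Set G)) : Set G) ≤
        o2 (centralizer (D : Set G)) := fun _ hD hD1 =>
  Cfsg.Agent.Omega.NOne.LemmaT.char2_centralizer hG ((pgroup_of_sq h.sq).to_le hD) hD1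

end LinesZ


end Cfsg.Agent.Omega.NO3b.ZP
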