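import Cfsg.Agent.Omega.NO3b.ZP.LocalExit
import Cfsg.Agent.Omega.NO3b.Exit.TwoFac

/-!
# (C2) for the seed `Z ≤ Ω₁(Z(S))` (`Exit/TwoFac.lean`)

`B` minimal admissible, `V = VB Z B`, `Fr S Z B H X T`, `Y = ⟨V^⟨S,X⟩⟩`.

* `Fr.Y_ff` : `Y` is FF; `Fr.exists_optY` : an optimal offender `A ≤ B` of `Y` with `A ≰ O₂(X)`;
* `pan` : the panel in the sense of `K0.Mix.Pan`;
* `Fr.two` : `Mix.Two V X`.
-/

set_option autoImplicit false
set_option linter.unusedSectionVars false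

namespace Cfsg.Agent.Omega.NO3b.ZP

open Subgroup Cfsg
open Cfsg.Agent.ZN (o2 zc zl jj zj)
open Cfsg.Agent.ZN.ChoiceBase hiding mem_zc
open Cfsg.Agent.ZN.ChoiceSit (Syl exists_syl syl_conj o2_le_syl syl_not_dvd)
open Cfsg.Agent.MinSimple.EmptyTI (syl_of_le)
open Cfsg.Agent.Omega.NO3b.EZero (NotFF cent_symm cj_cent cj_norm cj_eq_cj_iff cl le_cl cj_le_cl cl_le
  le_normalizer_cl le_normalizer_inf_cent oddGen_sup_syl isPGroup_Q0 sq_of_comm)
open Cfsg.Agent.Omega.FFThm (ElemM OffM NoOverM)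
open Cfsg.Agent.Omega.NOThreeL.Star (Opt Ok exists_opt ff rel_mul_card card_sup_mul)
open Cfsg.Agent.Omega.NO3b.Wc (WC StmtOff cj_sSup)
open Cfsg.Agent.Omega.NO3b.Exit (MaxBad WW_cj WW_pgroup wc_S_le offM_of_opt offM_of_max)
open Cfsg.Agent.MinSimple.MinParabolic (IsMinPar)
open Cfsg.Agent.MinSimple.VModule (mem_zc le_centralizer_zc zc_sq le_normalizer_o2 o2_isPGroup le_o2 zc_comm
  normalizer_le_normalizer_zc o2_le oddGen oddGen_le mem_normalizer_of_map_le)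
open Cfsg.Agent.Omega.NOne (Flat.Hyp Flat.Bad Flat.EE Flat.WW)
open Cfsg.Agent.Omega.NO3b.K0 (NoOv FullOff)
open Cfsg.Agent.Omega.NO3b.K0.Mix (Pan Two)

universe u

variable {G : Type u} [Group G] [Finite G] {S : Sylow 2 G} {Z : Subgroup G}

namespace Fr

variable {L B H X T : Subgroup G} (f : Fr S Z B H X T) (a : Adm S Z L B)
include f a

/-- **`Y` is FF.** -/
theorem Y_ff (hG : IsCharacteristicTwoType G) (hOff : StmtOff G) (hSne : (S : Subgroup G) ≠ ⊥)
    (hmin : ∀ B', Adm S Z L B' → B' ≤ B → B' = B) :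
    ¬ NotFF (cl (VB Z B) ((S : Subgroup G) ⊔ X)) := by
  intro hn
  have hYS : (S : Subgroup G) ≤ normalizer (cl (VB Z B) ((S : Subgroup G) ⊔ X) : Set G) :=
    le_sup_left.trans (le_normalizer_cl _ _)
  have key : ∀ D : Subgroup G, D ≤ B → ¬ D ≤ o2 X →
      ¬ D ≤ centralizer (cl (VB Z B) ((S : Subgroup G) ⊔ X) : Set G) := by
    intro D hDB hDX h0
    exact hDX ((le_inf (hDB.trans f.BT) (h0.trans (centralizer_le U_le_Y))).trans (f.cent_U a))
  have fin : ∀ D : Subgroup G, D ≤ B → OffM (cl (VB Z B) ((S : Subgroup G) ⊔ X)) D → False := by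
    intro D hDB hoff
    have hDS : D ≤ (S : Subgroup G) := hDB.trans a.wc.le
    have h3 := hn D (S.isPGroup'.to_le hDS) (hDS.trans hYS) hoff.sq hoff.comm hoff.ne
    exact absurd (FFThm.relIndex_le_iff.1 hoff.le) (not_le.2 h3)
  rcases f.main a hG hOff hSne hmin with ⟨-, A, hA, h1, h2, -⟩ | ⟨hnn, -, F, hF, h1, h2, -⟩
  · exact fin A h1 (offM_of_opt hA (cl_cent (f.Zz a)) (f.Y_le a) (key A h1 h2))
  · have h := root_LH (f.SH a) (f.Zz a) a.Zne a.Zc hnn
    refine fin _ h1 (off_of hG hOff h hF (h1.trans a.wc.le) ((f.Y_le a).trans (f.cl_le_V' a hnn)) (f.Y_low a)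
      (key _ h1 h2))

/-- **An optimal offender `A ≤ B` of `Y = ⟨V^⟨S,X⟩⟩` with `A ≰ O₂(X)`.** -/
theorem exists_optY (hG : IsCharacteristicTwoType G) (hOff : StmtOff G) (hSne : (S : Subgroup G) ≠ ⊥)
    (hmin : ∀ B', Adm S Z L B' → B' ≤ B → B' = B) :
    ∃ A, Opt (cl (VB Z B) ((S : Subgroup G) ⊔ X)) A ∧ A ≤ B ∧ ¬ A ≤ o2 X := by
  set Y := cl (VB Z B) ((S : Subgroup G) ⊔ X) with hY
  have hYn : (S : Subgroup G) ⊔ X ≤ normalizer (Y : Set G) := le_normalizer_cl _ _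
  have hYS : (S : Subgroup G) ≤ normalizer (Y : Set G) := le_sup_left.trans hYn
  obtain ⟨A0, hA0⟩ := exists_opt (f.Y_ff a hG hOff hSne hmin)
  obtain ⟨n, hn, hnS⟩ := FFThm.exists_conj_le S hYS hA0.pg hA0.norm
  have hB : ∀ D, Opt Y D → D ≤ (S : Subgroup G) → D ≤ B := fun D hD hDS =>
    (le_inf hDS (f.max_le a hD.toOk hD.max hDS)).trans a.cs.le
  by_contra hcon
  push Not at hcon
  set K : Subgroup G := sSup {D | Opt Y D ∧ D ≤ (S : Subgroup G)} with hK
  have hKB : K ≤ B := sSup_le fun D hD => hB D hD.1 hD.2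
  have hKX : K ≤ o2 X := sSup_le fun D hD => hcon D hD.1 (hB D hD.1 hD.2)
  have hKn : (S : Subgroup G) ⊔ X ≤ normalizer (K : Set G) := by
    have h1 : ∀ g ∈ (S : Subgroup G) ⊔ X, (∀ D, Opt Y D → D ≤ (S : Subgroup G) → cj g D ≤ (S : Subgroup G)) →
        g ∈ normalizer (K : Set G) := by
      intro g hg h1
      refine mem_normalizer_of_map_le ?_
      change cj g K ≤ K
      rw [hK, cj_sSup]
      refine iSup_le fun D => ?_
      exact le_sSup (a := cj g D) ⟨D.2.1.cj (hYn hg), h1 D D.2.1 D.2.2⟩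
    refine sup_le (fun s hs => h1 s (mem_sup_left hs) fun D _ hDS => ?_)
      (fun x hx => h1 x (mem_sup_right hx) fun D hD hDS => ?_)
    · have h2 := cj_mono s hDS
      rwa [cj_eq_of_mem_normalizer (Subgroup.le_normalizer hs)] at h2
    · have h2 := cj_mono x (hcon D hD (hB D hD hDS))
      rw [cj_eq_of_mem_normalizer (le_normalizer_o2 _ hx)] at h2
      exact h2.trans ((o2_le_syl f.syl).trans f.TS)
  have hKV : K ≤ centralizer (VB Z B : Set G) := hKB.trans (by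
    have := a.cs
    intro b hb
    rw [← this] at hb
    exact hb.2)
  have hKY : K ≤ centralizer (Y : Set G) := by
    refine cent_symm (cl_le fun x hx => ?_)
    have h1 := cj_cent (g := x) (cent_symm hKV)
    rwa [cj_eq_of_mem_normalizer (hKn hx)] at h1
  have h2 : cj n A0 ∈ {D | Opt Y D ∧ D ≤ (S : Subgroup G)} := ⟨hA0.cj hn, hnS⟩
  exact (hA0.cj hn).ne ((le_sSup h2).trans hKY)

end Fr

/-- the panel of `Fl`, `Lines`, `Par` -/
theorem pan {V F T X J : Subgroup G} (f : Fl S V F T) (h : LinesZ S Z J V) (p : Par S V F T X)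
    (hti : ∀ g : G, V ⊓ cj g V ≠ ⊥ → V ≤ centralizer ((cj g V : Subgroup G) : Set G)) :
    Pan V F T X (normalizer (((S : Subgroup G) ⊓ centralizer (V : Set G) : Subgroup G) : Set G))
      ((S : Subgroup G) ⊓ centralizer (V : Set G)) where
  sq := h.sq
  comm := h.comm
  nff := h.nff
  F_le := f.le
  F_ne := f.ne_V
  F_ne_bot := f.ne
  X_le := p.le
  syl := f.sylX p
  mp := f.isMinPar h p
  nle := p.nle
  T_le := f.T_le.trans (S_le_L0 h)
  L_le := L0_le h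
  Q0_le := f.Q0_le
  L_Q0 := le_rfl
  Q0_cent := inf_le_right
  le_Q0 := fun _ hR h1 h2 => le_Q0 h hR h1 h2
  V_le := V_le_Q0 h
  line := fun _ hx hxV => f.line h (p.le_CF hx) hxV
  ti := hti

/-- **(C2)**: two noncentral chief factors of `X` in `⟨V^X⟩`. -/
theorem Fr.two {L B H X T F : Subgroup G} (f : Fr S Z B H X T) (a : Adm S Z L B)
    (fl : Fl S (VB Z B) F T) (p : Par S (VB Z B) F T X)
    (hA : FFBr.AStmt.{u}) (hFF : FFThm.Stmt.{u}) (hG : IsCharacteristicTwoType G) (hOff : StmtOff G)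
    (hSne : (S : Subgroup G) ≠ ⊥) (hmin : ∀ B', Adm S Z L B' → B' ≤ B → B' = B) :
    Two (VB Z B) X := by
  by_contra hX
  have h := pan fl a.lines p fun g hg => ti hG a.lines g hg
  set V := VB Z B with hV
  set Y := cl V ((S : Subgroup G) ⊔ X) with hY
  obtain ⟨A, hAo, hAB, hAX⟩ := f.exists_optY a hG hOff hSne hmin
  have hAT : A ≤ T := hAB.trans f.BT
  have hUY : cl V X ≤ Y := Fr.U_le_Y
  have hYc : Y ≤ centralizer (Y : Set G) := f.Y_comm a
  have hU0Y : (⁅cl V X, oddGen X⁆ : Subgroup G) ≤ Y := Pan.U0_le.trans hUY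
  have hne : ¬ A ≤ centralizer ((⁅cl V X, oddGen X⁆ : Subgroup G) : Set G) := fun h0 =>
    hAX (h.le_o2_of_cent Pan.X_norm_U0 h.U0_not_cent hAo.pg (hAT.trans f.syl.1) h0)
  have hoff := offM_of_max hAo.toOk hAo.max hYc hU0Y hne
  obtain ⟨y, hy, hyT, hyO⟩ := h.exists_fix hX (K0.noOv hA (fl.sylX p) (fl.isMinPar a.lines p))
    (K0.fullOff hA (fl.sylX p) (fl.isMinPar a.lines p)) hAT hAX
    (fun x hx => centralizer_le hUY (hAo.sq x hx))
    (fun x hx z hz => centralizer_le hUY (hAo.comm x hx z hz)) (FFThm.relIndex_le_iff.1 hoff.le)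
  refine hyO (Exit.Holo.cen_mod hFF (S := (S : Subgroup G)) (T := T) (X := X) (Y := Y) (V := V) (A := A)
    S.isPGroup' (le_sup_left.trans (le_normalizer_cl _ _)) (le_sup_right.trans (le_normalizer_cl _ _)) hYc
    (f.Y_sq a) f.TS f.syl f.mp (le_cl _ _) ?_ ?_ hAT hAo.toOk hAo.max hAX ?_ ⟨hU0Y hy, hyT⟩)
  · rw [a.cs]; exact f.BT
  · exact fun D hD hok hm => f.max_le a hok hm hD
  · exact f.XZ.trans (centralizer_le (f.Y_inf_cent a))

end Cfsg.Agent.Omega.NO3b.ZP
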