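import Cfsg.Agent.Omega.NO3b.BetaTwo.NoOver
import Cfsg.Agent.Omega.NO3b.ZP.TwoFac
import Cfsg.Agent.Omega.NO3b.ZP.Chain.Sit

/-!
# The frame of NotFF for `Z ≤ Ω₁(Z(S))`: no over-offenders of a panel

`noOver` : no over-offenders of `X` on `⟨V^X⟩` (`Exit/{MU, LocBar, Bridge}` do not see `Ω₁(Z(S))`; `ZP.sit_of_fl`).
-/

set_option autoImplicit false

namespace Cfsg.Agent.Omega.NO3b.ZP

open Subgroup Cfsg
open Cfsg.Agent.Omega.NO3b.EZero (le_cl le_normalizer_cl)

universe u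

variable {G : Type u} [Group G] [Finite G] {S : Sylow 2 G} {Z J V F T X : Subgroup G}

/-- **no over-offenders of `X` on `⟨V^X⟩`** -/
theorem noOver (hG : IsCharacteristicTwoType G) (l : LinesZ S Z J V) (f : Fl S V F T) (p : Par S V F T X) :
    BetaTwo.NoOver V X := by
  have pn := pan f l p fun g hg => ti hG l g hg
  exact BetaTwo.noOver_of (sit_of_fl l f p pn.U_comm pn.U_sq (le_cl _ _) (le_normalizer_cl _ _))

end Cfsg.Agent.Omega.NO3b.ZP
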