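import Cfsg.Agent.Omega.NO3b.ZP.AlphaEnd
import Cfsg.Agent.Omega.NO3b.Wc.Frame
import Cfsg.Agent.Omega.NO3b.EZeroPair

/-!
# The frame of NotFF for `Z ≤ Ω₁(Z(S))`: the w.c. frame (`Wc/Frame.lean`, helper459's `Seed/Frame.lean`)

* `QL S Z L = C_S(⟨Z^L⟩)`, `WH S Z L` : the largest weakly closed subgroup of `S` in it, `ML S Z L = N_G(WH S Z L)`,
  `VL S Z L = ⟨Z^M⟩`;
* `Root S Z L` : `S ≤ L`, `1 ≠ Z ≤ Ω₁(Z(S))`, `⟨Z^L⟩` elementary abelian, not FF, `L ≤ N(C_S(⟨Z^L⟩))`;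
* `Root.cs_V`, `Root.principle`, `Root.V_nff`, `Root.lines` : as there.
-/

set_option autoImplicit false
set_option linter.unusedSectionVars false

namespace Cfsg.Agent.Omega.NO3b.ZP

open Subgroup Cfsg
open Cfsg.Agent.ZN (o2 zc zl jj zj)
open Cfsg.Agent.ZN.ChoiceBase hiding mem_zc
open Cfsg.Agent.ZN.ChoiceSit (exists_syl syl_conj o2_le_syl)
open Cfsg.Agent.Omega.MinPar Cfsg.Agent.Omega.Frame
open Cfsg.Agent.Omega.NO3b.EZero (NotFF cent_symm cj_cent cj_norm cj_eq_cj_iff cl le_cl cj_le_cl cl_le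
  le_normalizer_cl)
open Cfsg.Agent.Omega.NO3b.Wc (WC cj_sSup)
open Cfsg.Agent.Omega.FFThm (ElemM OffM NoOverM)
open Cfsg.Agent.Omega.NOThreeL.Star (Opt Ok exists_opt card_sup_mul rel_mul_card)
open Cfsg.Agent.MinSimple.VModule (mem_zc le_centralizer_zc zc_sq le_normalizer_o2 o2_isPGroup le_o2 zc_comm
  normalizer_le_normalizer_zc)

universe u

variable {G : Type u} [Group G]

/-- `⟨Z^L⟩ ≤ A` if `Z ≤ A` and `L` normalises `A`. -/
theorem cl_le' {Z L A : Subgroup G} (h : Z ≤ A) (hL : L ≤ normalizer (A : Set G)) : cl Z L ≤ A :=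
  cl_le fun p hp => (cj_mono p h).trans (cj_eq_of_mem_normalizer (hL hp)).le

theorem cl_mono (Z : Subgroup G) {L L' : Subgroup G} (h : L ≤ L') : cl Z L ≤ cl Z L' :=
  cl_le fun _ hp => cj_le_cl (h hp)

theorem cl_mono_left {Z Z' : Subgroup G} (L : Subgroup G) (h : Z ≤ Z') : cl Z L ≤ cl Z' L :=
  cl_le fun p hp => (cj_mono p h).trans (cj_le_cl hp)

/-- `⟨Z^L⟩ = Z` if `L` normalises `Z`. -/
theorem cl_eq {Z L : Subgroup G} (hL : L ≤ normalizer (Z : Set G)) : cl Z L = Z :=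
  le_antisymm (cl_le' le_rfl hL) (le_cl _ _)

/-- The hypotheses. -/
structure Root [Finite G] (S : Sylow 2 G) (Z L : Subgroup G) : Prop where
  le : (S : Subgroup G) ≤ L
  Zne : Z ≠ ⊥
  Zc : Z ≤ zc (S : Subgroup G)
  comm : cl Z L ≤ centralizer (cl Z L : Set G)
  sq : ∀ v ∈ cl Z L, v ^ 2 = 1
  nff : NotFF (cl Z L)
  cs : L ≤ normalizer (((S : Subgroup G) ⊓ centralizer (cl Z L : Set G) : Subgroup G) : Set G)

/-- `C_S(⟨Z^L⟩)` -/
def QL (S Z L : Subgroup G) : Subgroup G := S ⊓ centralizer (cl Z L : Set G)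

/-- The largest weakly closed subgroup of `S` in `C_S(⟨Z^L⟩)`. -/
def WH (S Z L : Subgroup G) : Subgroup G := sSup {B | WC S B ∧ B ≤ QL S Z L}

/-- `M = N_G(W^)` -/
def ML (S Z L : Subgroup G) : Subgroup G := normalizer (WH S Z L : Set G)

/-- `V = ⟨Z^M⟩` -/
def VL (S Z L : Subgroup G) : Subgroup G := cl Z (ML S Z L)

theorem wc_WH (S Z L : Subgroup G) : WC S (WH S Z L) := WC.sSup fun _ hb => hb.1

theorem WH_le (S Z L : Subgroup G) : WH S Z L ≤ QL S Z L := sSup_le fun _ hb => hb.2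

theorem WH_le_S (S Z L : Subgroup G) : WH S Z L ≤ S := (WH_le S Z L).trans inf_le_left

theorem le_WH {S Z L B : Subgroup G} (h : WC S B) (hB : B ≤ QL S Z L) : B ≤ WH S Z L := le_sSup ⟨h, hB⟩

theorem mem_ML_of_le {S Z L : Subgroup G} {g : G} (h : cj g (WH S Z L) ≤ S) : g ∈ ML S Z L :=
  mem_normalizer_iff_cj.2 ((wc_WH S Z L).eq g h)

theorem ML_le_norm_V (S Z L : Subgroup G) : ML S Z L ≤ normalizer (VL S Z L : Set G) := le_normalizer_cl _ _

theorem Z_le_V (S Z L : Subgroup G) : Z ≤ VL S Z L := le_cl _ _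

namespace Root

variable [Finite G] {S : Sylow 2 G} {Z L : Subgroup G} (h : Root S Z L)
include h

theorem L_le : L ≤ ML (S : Subgroup G) Z L := by
  intro l hl
  refine mem_ML_of_le ?_
  have h1 := cj_mono l (WH_le (S : Subgroup G) Z L)
  have h2 : cj l (QL (S : Subgroup G) Z L) = QL (S : Subgroup G) Z L := cj_eq_of_mem_normalizer (h.cs hl)
  rw [h2] at h1
  exact h1.trans inf_le_left

theorem S_le : (S : Subgroup G) ≤ ML (S : Subgroup G) Z L := h.le.trans h.L_le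

omit h in
/-- `N_G(T) ≤ M` for `W^ ≤ T ≤ S`. -/
theorem norm_le {T : Subgroup G} (h1 : WH (S : Subgroup G) Z L ≤ T) (h2 : T ≤ (S : Subgroup G)) :
    normalizer (T : Set G) ≤ ML (S : Subgroup G) Z L := by
  intro n hn
  refine mem_ML_of_le ?_
  have h3 := cj_mono n h1
  rw [cj_eq_of_mem_normalizer hn] at h3
  exact h3.trans h2

omit h in
theorem NS_le : normalizer ((S : Subgroup G) : Set G) ≤ ML (S : Subgroup G) Z L := norm_le (WH_le_S _ _ _) le_rfl

theorem cl_le_S : cl Z L ≤ (S : Subgroup G) :=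
  MinPar.le_of_le_normalizer S (NO3b.NoEmp.pgroup_of_sq h.sq) (h.le.trans (le_normalizer_cl _ _))

/-- `J(S)` centralises `⟨Z^L⟩` -/
theorem jj_cent : jj (S : Subgroup G) ≤ centralizer (cl Z L : Set G) := by
  rw [ZN.ChoiceBase.jj_eq]
  refine sSup_le fun A hA => ?_
  by_contra hne
  have h1 := FFThm.off_of_AA (V := cl Z L) ⟨⟨⟨fun a b => Subtype.ext
    (mem_centralizer_iff.1 (h.comm b.2) a a.2)⟩⟩, h.sq⟩ h.cl_le_S hA hne
  have h2 := h1.offM
  have hAS : A ≤ (S : Subgroup G) := hA.2.1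
  have h3 := h.nff A (S.isPGroup'.to_le hAS) (hAS.trans (h.le.trans (le_normalizer_cl _ _))) h2.sq h2.comm hne
  exact absurd (FFThm.relIndex_le_iff.1 h2.le) (not_le.2 h3)

/-- `J(S) ≤ W^` -/
theorem jj_le : jj (S : Subgroup G) ≤ WH (S : Subgroup G) Z L := by
  refine le_WH ⟨ZN.ChoiceBase.jj_le _, fun g hg => ?_⟩ (le_inf (ZN.ChoiceBase.jj_le _) h.jj_cent)
  have h1 : jj (S : Subgroup G) ≤ cj g⁻¹ (S : Subgroup G) := cj_le_iff.1 hg
  have h2 := MinSimple.EmptyTI.jj_eq S (isPGroup_cj g⁻¹ S.isPGroup') h1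
  rw [jj_cj] at h2
  have h3 := congrArg (cj g) h2
  rw [cj_cj_inv] at h3
  exact h3.symm

/-- `⟨Z^L⟩ ≤ J(S)` -/
theorem cl_le_jj : cl Z L ≤ jj (S : Subgroup G) := fun x hx =>
  mem_jj_of_comm (h.cl_le_S hx) (h.sq x hx) fun _ hy => (mem_centralizer_iff.1 (h.jj_cent hy) x hx).symm

theorem Z_le_WH : Z ≤ WH (S : Subgroup G) Z L := ((le_cl _ _).trans h.cl_le_jj).trans h.jj_le

/-- `V ≤ Ω₁(Z(W^))` -/
theorem V_le : VL (S : Subgroup G) Z L ≤ zc (WH (S : Subgroup G) Z L) := by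
  refine cl_le' ?_ (normalizer_le_normalizer_zc _)
  intro x hx
  refine mem_zc.2 ⟨h.Z_le_WH hx, fun y hy => ?_, h.sq x (le_cl _ _ hx)⟩
  exact (mem_centralizer_iff.1 ((WH_le _ _ _ hy).2) x (le_cl _ _ hx)).symm

theorem V_comm : VL (S : Subgroup G) Z L ≤ centralizer (VL (S : Subgroup G) Z L : Set G) := by
  intro x hx
  rw [mem_centralizer_iff]
  intro y hy
  exact zc_comm _ _ (h.V_le hy) _ (h.V_le hx)

theorem V_sq : ∀ v ∈ VL (S : Subgroup G) Z L, v ^ 2 = 1 := fun v hv => zc_sq _ v (h.V_le hv)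

theorem V_le_S : VL (S : Subgroup G) Z L ≤ (S : Subgroup G) := (h.V_le.trans (ZN.zc_le _)).trans (WH_le_S _ _ _)

theorem cl_le_V : cl Z L ≤ VL (S : Subgroup G) Z L := cl_mono _ h.L_le

theorem WH_cent : WH (S : Subgroup G) Z L ≤ centralizer (VL (S : Subgroup G) Z L : Set G) :=
  cent_symm (h.V_le.trans fun _ hx => mem_centralizer_iff.2 fun y hy => (mem_zc.1 hx).2.1 y hy)

/-- **`C_S(V) = W^`** -/
theorem cs_V : (S : Subgroup G) ⊓ centralizer (VL (S : Subgroup G) Z L : Set G) = WH (S : Subgroup G) Z L := by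
  refine le_antisymm (le_WH ⟨inf_le_left, fun g hg => ?_⟩ (inf_le_inf_left _ (centralizer_le h.cl_le_V)))
    (le_inf (WH_le_S _ _ _) h.WH_cent)
  have h1 : WH (S : Subgroup G) Z L ≤ (S : Subgroup G) ⊓ centralizer (VL (S : Subgroup G) Z L : Set G) :=
    le_inf (WH_le_S _ _ _) h.WH_cent
  have h2 : g ∈ ML (S : Subgroup G) Z L := mem_ML_of_le ((cj_mono g h1).trans hg)
  have h3 : cj g (VL (S : Subgroup G) Z L) = VL (S : Subgroup G) Z L :=
    cj_eq_of_mem_normalizer (ML_le_norm_V _ _ _ h2)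
  have h4 : cj g ((S : Subgroup G) ⊓ centralizer (VL (S : Subgroup G) Z L : Set G)) ≤
      (S : Subgroup G) ⊓ centralizer (VL (S : Subgroup G) Z L : Set G) := by
    refine le_inf hg ?_
    rw [cj_inf, cj_centralizer, h3]
    exact inf_le_right
  exact Subgroup.eq_of_le_of_card_ge h4 (card_cj _ _).ge

omit h in
/-- A 2-group containing `W^` lies in `M`. -/
theorem pgroup_le {T : Subgroup G} (hS : (S : Subgroup G) ≤ ML (S : Subgroup G) Z L) (hT : IsPGroup 2 T)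
    (h1 : WH (S : Subgroup G) Z L ≤ T) : T ≤ ML (S : Subgroup G) Z L := by
  obtain ⟨S', hS'⟩ := hT.exists_le_sylow
  obtain ⟨l, hl⟩ := MulAction.exists_smul_eq G S S'
  have hl2 : (S' : Subgroup G) = cj l (S : Subgroup G) := by
    rw [← hl, Sylow.coe_subgroup_smul]; rfl
  rw [hl2] at hS'
  have h2 : cj l⁻¹ (WH (S : Subgroup G) Z L) ≤ (S : Subgroup G) := by
    have h3 := cj_mono l⁻¹ (h1.trans hS')
    rwa [cj_inv_cj] at h3
  have h3 : l ∈ ML (S : Subgroup G) Z L := by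
    have := inv_mem (mem_ML_of_le h2)
    rwa [inv_inv] at this
  refine hS'.trans ?_
  have h4 := cj_mono l hS
  rwa [cj_eq_of_mem_normalizer (Subgroup.le_normalizer h3)] at h4

/-- **Sylow control**: `O₂(X) ≤ M` for every `X ≥ W^`. -/
theorem o2_le {X : Subgroup G} (hX : WH (S : Subgroup G) Z L ≤ X) : o2 X ≤ ML (S : Subgroup G) Z L := by
  obtain ⟨T, hT, h1⟩ := exists_syl (S.isPGroup'.to_le (WH_le_S (S : Subgroup G) Z L)) hX
  exact (o2_le_syl hT).trans (pgroup_le h.S_le hT.2.1 h1)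

/-- `O₂(C_G(D)) ≤ M` for `D ≤ V`. -/
theorem o2_cent_le {D : Subgroup G} (hD : D ≤ VL (S : Subgroup G) Z L) :
    o2 (centralizer (D : Set G)) ≤ ML (S : Subgroup G) Z L :=
  h.o2_le (h.WH_cent.trans (centralizer_le hD))

/-- **PRINCIPLE** (#16346 (iii)). -/
theorem principle {F : Set (Subgroup G)} (hF : ∀ A ∈ F, ∀ n ∈ ML (S : Subgroup G) Z L, cj n A ∈ F)
    {A : Subgroup G} (hA : A ∈ F) (hAS : A ≤ (S : Subgroup G))
    (hAV : ¬ A ≤ centralizer (VL (S : Subgroup G) Z L : Set G)) :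
    ∃ B ∈ F, B ≤ (S : Subgroup G) ∧ ¬ B ≤ centralizer (cl Z L : Set G) := by
  by_contra hcon
  have hcon' : ∀ B ∈ F, B ≤ (S : Subgroup G) → B ≤ centralizer (cl Z L : Set G) := by
    intro B hB hBS
    by_contra h1
    exact hcon ⟨B, hB, hBS, h1⟩
  set K : Subgroup G := WH (S : Subgroup G) Z L ⊔ sSup {B | B ∈ F ∧ B ≤ (S : Subgroup G)} with hK
  have hKQ : K ≤ QL (S : Subgroup G) Z L :=
    sup_le (WH_le _ _ _) (sSup_le fun B hB => le_inf hB.2 (hcon' B hB.1 hB.2))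
  have hKW : K ≤ WH (S : Subgroup G) Z L := by
    refine le_WH ⟨hKQ.trans inf_le_left, fun g hg => ?_⟩ hKQ
    have h2 : g ∈ ML (S : Subgroup G) Z L := mem_ML_of_le ((cj_mono g le_sup_left).trans hg)
    have h4 : cj g K ≤ K := by
      change Subgroup.map _ _ ≤ _
      rw [hK, Subgroup.map_sup]
      refine sup_le_sup (cj_eq_of_mem_normalizer h2).le ?_
      change cj g (sSup {B | B ∈ F ∧ B ≤ (S : Subgroup G)}) ≤ _
      rw [cj_sSup]
      refine iSup_le fun B => ?_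
      have h5 : cj g (B : Subgroup G) ≤ (S : Subgroup G) :=
        (cj_mono g ((le_sSup B.2).trans le_sup_right)).trans hg
      exact le_sSup (a := cj g (B : Subgroup G)) ⟨hF _ B.2.1 g h2, h5⟩
    exact Subgroup.eq_of_le_of_card_ge h4 (card_cj _ _).ge
  have h6 : A ≤ K := (le_sSup (s := {B | B ∈ F ∧ B ≤ (S : Subgroup G)}) ⟨hA, hAS⟩).trans le_sup_right
  exact hAV (h6.trans (hKW.trans h.WH_cent))

/-- A 2-subgroup of `M` is `M`-conjugate to a subgroup of `S`. -/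
theorem exists_conj_le {A : Subgroup G} (hA : IsPGroup 2 A) (hAM : A ≤ ML (S : Subgroup G) Z L) :
    ∃ n ∈ ML (S : Subgroup G) Z L, cj n A ≤ (S : Subgroup G) :=
  FFThm.exists_conj_le S h.S_le hA hAM

/-- **`V` is not FF.** -/
theorem V_nff : NotFF (VL (S : Subgroup G) Z L) := by
  by_contra hn
  obtain ⟨A0, hA0⟩ := exists_opt hn
  obtain ⟨n, hn, hnS⟩ := FFThm.exists_conj_le S (h.S_le.trans (ML_le_norm_V _ _ _)) hA0.pg hA0.norm
  have hA1 := hA0.cj hn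
  obtain ⟨A, hA, hAS, hne⟩ := h.principle (F := {A | Opt (VL (S : Subgroup G) Z L) A})
    (fun A hA m hm => Opt.cj hA (ML_le_norm_V _ _ _ hm)) hA1 hnS hA1.ne
  obtain ⟨h1, -⟩ := Opt.exact hA h.V_comm h.cl_le_V hne le_rfl (P := A) fun hoff => by
    exfalso
    have h3 := h.nff A hA.pg (hAS.trans (h.le.trans (le_normalizer_cl _ _))) hoff.sq hoff.comm hne
    exact absurd (FFThm.relIndex_le_iff.1 hoff.le) (not_le.2 h3)
  have h3 := h.nff A hA.pg (hAS.trans (h.le.trans (le_normalizer_cl _ _))) h1.sq h1.comm hne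
  exact absurd (FFThm.relIndex_le_iff.1 h1.le) (not_le.2 h3)

/-- The frame `LinesZ`. -/
theorem lines (low : VL (S : Subgroup G) Z L ≤ o2 (centralizer (Z : Set G))) :
    LinesZ S Z (WH (S : Subgroup G) Z L) (VL (S : Subgroup G) Z L) where
  JS := WH_le_S _ _ _
  wc := (wc_WH _ _ _).eq
  NJ := ML_le_norm_V _ _ _
  JV := h.WH_cent
  comm := h.V_comm
  sq := h.V_sq
  Zne := h.Zne
  Zc := h.Zc
  ZV := Z_le_V _ _ _
  nff := h.V_nff
  low := low

omit h in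
/-- `W^ = C_S(⟨Z^L⟩)` if the latter is weakly closed. -/
theorem WH_eq (hw : WC (S : Subgroup G) (QL (S : Subgroup G) Z L)) :
    WH (S : Subgroup G) Z L = QL (S : Subgroup G) Z L := le_antisymm (WH_le _ _ _) (le_WH hw le_rfl)

omit h in
/-- `V = Z` if `C_S(⟨Z^L⟩)` is weakly closed and its normaliser normalises `Z`. -/
theorem VL_eq (hw : WC (S : Subgroup G) (QL (S : Subgroup G) Z L))
    (hn : normalizer (QL (S : Subgroup G) Z L : Set G) ≤ normalizer (Z : Set G)) : VL (S : Subgroup G) Z L = Z := by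
  rw [VL, ML, WH_eq hw]
  exact cl_eq hn

end Root

end Cfsg.Agent.Omega.NO3b.ZP
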