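import Cfsg.Agent.Omega.NO3b.ZP.Alt
import Cfsg.Agent.Omega.NO3b.Exit.TwoFac

/-!
# The frame of NotFF for `Z ≤ Ω₁(Z(S))`: the local exit (`Exit/LocalExit.lean`, helper459's `Seed/LocalExit.lean`)

`B` admissible (`Adm S Z L B`), `M = N_G(B)`, `V = VB Z B = ⟨Z^M⟩`, `X` a minimal parabolic over `T`, `B ≤ T ≤ S`,
`X ≤ C_G(Z) ∩ C_G(Ω₁(Z(S)))`, `X ≰ N_G(V)`, `H = ⟨M, X⟩` of characteristic 2 (`Fr`), `V_H = ⟨Z^H⟩`, `U = ⟨V^X⟩`.

* `Fr.gamma` : `V_H` is FF: a best offender `A ≤ B` of `V_H`, `A ≰ O₂(X)`, offends on `U`;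
* `Fr.beta` : `V_H` is not FF, `V' ≰ O₂(C_G(Z))` (`V' = VL S Z (LH S Z H) ≥ V_H` the w.c. closure): some `W_F ≤ B`,
  `W_F ≰ O₂(X)`, offends on `U`;
* `Fr.closed` : `V_H` is not FF, `V' ≤ O₂(C_G(Z))`: a smaller admissible `B'`;
* `Fr.main`, `Fr.exists_off` : `B` minimal: `γ` or `β`;
* `Fr.Y_low`, `Fr.Y_le`, `Fr.max_le`, ... : `⟨V^⟨S,X⟩⟩` (`Exit/TwoFac.lean`).
-/

set_option autoImplicit false
set_option linter.unusedSectionVars false

namespace Cfsg.Agent.Omega.NO3b.ZP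

open Subgroup Cfsg
open Cfsg.Agent.ZN (o2 zc zl jj zj)
open Cfsg.Agent.ZN.ChoiceBase hiding mem_zc
open Cfsg.Agent.ZN.ChoiceSit (Syl exists_syl syl_conj o2_le_syl syl_not_dvd)
open Cfsg.Agent.MinSimple.EmptyTI (syl_of_le)
open Cfsg.Agent.Omega.NO3b.EZero (NotFF cent_symm cj_cent cj_norm cj_eq_cj_iff cl le_cl cj_le_cl cl_le
  le_normalizer_cl le_normalizer_inf_cent oddGen_sup_syl isPGroup_Q0)
open Cfsg.Agent.Omega.FFThm (ElemM OffM NoOverM)
open Cfsg.Agent.Omega.NOThreeL.Star (Opt Ok exists_opt ff)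
open Cfsg.Agent.Omega.NO3b.Wc (WC StmtOff cj_sSup)
open Cfsg.Agent.Omega.NO3b.Exit (MaxBad WW_cj WW_pgroup wc_S_le frattini offM_of_opt offM_of_max)
open Cfsg.Agent.MinSimple.MinParabolic (IsMinPar)
open Cfsg.Agent.MinSimple.VModule (mem_zc le_centralizer_zc zc_sq le_normalizer_o2 o2_isPGroup le_o2 zc_comm
  normalizer_le_normalizer_zc o2_le oddGen oddGen_le mem_normalizer_of_map_le)
open Cfsg.Agent.Omega.NOne (Flat.Hyp Flat.Bad Flat.EE Flat.WW)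

universe u

variable {G : Type u} [Group G] [Finite G] {S : Sylow 2 G}

/-- `N_G(⟨Z^H⟩) ∩ N_G(C_S(⟨Z^H⟩))` -/
def LH (S Z H : Subgroup G) : Subgroup G :=
  normalizer (cl Z H : Set G) ⊓ normalizer ((S ⊓ centralizer (cl Z H : Set G) : Subgroup G) : Set G)

section big

variable {Z H : Subgroup G} (hS : (S : Subgroup G) ≤ H)
include hS

theorem S_le_LH : (S : Subgroup G) ≤ LH (S : Subgroup G) Z H := by
  have h1 : (S : Subgroup G) ≤ normalizer (cl Z H : Set G) := hS.trans (le_normalizer_cl _ _)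
  refine le_inf h1 fun s hs => ?_
  rw [mem_normalizer_iff_cj, cj_inf, cj_centralizer, mem_normalizer_iff_cj.1 (h1 hs)]
  congr 1
  exact cj_eq_of_mem_normalizer (Subgroup.le_normalizer hs)

/-- `⟨Z^{LH}⟩ = ⟨Z^H⟩` -/
theorem cl_LH : cl Z (LH (S : Subgroup G) Z H) = cl Z H := by
  apply le_antisymm
  · exact cl_le' (le_cl _ _) inf_le_left
  · refine cl_le' (le_cl _ _) fun x hx => ?_
    have hle : cl Z (LH (S : Subgroup G) Z H) ≤ cl Z H := cl_le' (le_cl _ _) inf_le_left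
    have hxV := le_normalizer_cl Z H hx
    obtain ⟨c, hc, hcx⟩ := frattini (hS.trans (le_normalizer_cl _ _)) hxV
    have h1 : c ∈ normalizer (cl Z (LH (S : Subgroup G) Z H) : Set G) :=
      centralizer_le_normalizer _ (centralizer_le hle hc)
    have h2 : c⁻¹ * x ∈ LH (S : Subgroup G) Z H :=
      ⟨Subgroup.mul_mem _ (Subgroup.inv_mem _ (centralizer_le_normalizer _ hc)) hxV, hcx⟩
    have h3 := Subgroup.mul_mem _ h1 (le_normalizer_cl Z _ h2)
    rwa [mul_inv_cancel_left] at h3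

variable (hY : Z ≤ zc (o2 H))
include hY

omit [Finite G] hS in
theorem cl_le_zc : cl Z H ≤ zc (o2 H) := cl_le' hY ((le_normalizer_o2 H).trans (normalizer_le_normalizer_zc _))

omit [Finite G] hS in
theorem cl_cent : cl Z H ≤ centralizer (cl Z H : Set G) := by
  intro x hx
  rw [mem_centralizer_iff]
  intro y hy
  exact zc_comm _ _ (cl_le_zc hY hy) _ (cl_le_zc hY hx)

omit [Finite G] hS in
theorem cl_sq : ∀ v ∈ cl Z H, v ^ 2 = 1 := fun v hv => zc_sq _ v (cl_le_zc hY hv)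

omit [Finite G] hS in
theorem o2_cent : o2 H ≤ centralizer (cl Z H : Set G) :=
  cent_symm ((cl_le_zc hY).trans fun _ hx => mem_centralizer_iff.2 fun y hy => (mem_zc.1 hx).2.1 y hy)

/-- The w.c. frame for `⟨Z^H⟩`, if it is not FF. -/
theorem root_LH (hZne : Z ≠ ⊥) (hZ : Z ≤ zc (S : Subgroup G)) (hn : NotFF (cl Z H)) :
    Root S Z (LH (S : Subgroup G) Z H) where
  le := S_le_LH hS
  Zne := hZne
  Zc := hZ
  comm := by rw [cl_LH hS]; exact cl_cent hY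
  sq := by rw [cl_LH hS]; exact cl_sq hY
  nff := by rw [cl_LH hS]; exact hn
  cs := by rw [cl_LH hS]; exact inf_le_right

end big

/-! ### The frame -/

/-- The local situation. -/
structure Fr (S : Sylow 2 G) (Z B H X T : Subgroup G) : Prop where
  NB : normalizer (B : Set G) ≤ H
  XH : X ≤ H
  gen : H ≤ normalizer (B : Set G) ⊔ X
  char2 : H ⊓ centralizer (o2 H : Set G) ≤ o2 H
  TS : T ≤ (S : Subgroup G)
  BT : B ≤ T
  syl : Syl T X
  mp : IsMinPar T X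
  XZ : X ≤ centralizer (zc (S : Subgroup G) : Set G)
  XZ' : X ≤ centralizer (Z : Set G)
  nle : ¬ X ≤ normalizer (VB Z B : Set G)

namespace Fr

variable {Z L B H X T : Subgroup G} (f : Fr S Z B H X T) (a : Adm S Z L B)
include f a

theorem SH : (S : Subgroup G) ≤ H := (wc_S_le a.wc).trans f.NB

/-- `Z ≤ Ω₁(Z(O₂(H)))` -/
theorem Zz : Z ≤ zc (o2 H) := by
  have hS : o2 H ≤ (S : Subgroup G) := o2_le_syl (syl_of_le (f.SH a))
  intro z hz
  have h1 := ZN.ChoiceBase.mem_zc.1 (a.Zc hz)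
  have h2 : ∀ y ∈ o2 H, y * z = z * y := fun y hy => h1.2.2 y (hS hy)
  exact ZN.ChoiceBase.mem_zc.2 ⟨f.char2 ⟨f.SH a h1.1, mem_centralizer_iff.2 h2⟩, h1.2.1, h2⟩

omit [Finite G] a in
theorem V_le : VB Z B ≤ cl Z H := cl_mono _ f.NB

omit [Finite G] a in
theorem U_le : cl (VB Z B) X ≤ cl Z H := by
  refine cl_le fun x hx => ?_
  have h1 := cj_mono x f.V_le
  rwa [cj_eq_of_mem_normalizer (le_normalizer_cl _ _ (f.XH hx))] at h1

theorem TV : T ≤ normalizer (VB Z B : Set G) := f.TS.trans a.lines.S_le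

/-- `C_T(U) ≤ O₂(X)` -/
theorem cent_U : T ⊓ centralizer (cl (VB Z B) X : Set G) ≤ o2 X := by
  rcases K0.min_or f.syl f.mp (K := X ⊓ centralizer (cl (VB Z B) X : Set G)) inf_le_left
    (le_normalizer_inf_cent (le_normalizer_cl _ _)) with h1 | h1
  · exfalso
    apply f.nle
    rw [← oddGen_sup_syl f.syl]
    refine sup_le ?_ (f.TV a)
    exact (h1.trans inf_le_right).trans ((centralizer_le (le_cl _ _)).trans (centralizer_le_normalizer _))
  · exact (le_inf inf_le_left (le_inf (inf_le_left.trans f.syl.1) inf_le_right)).trans h1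

/-- `C_S(V_H) ≤ B` -/
theorem cs_le : (S : Subgroup G) ⊓ centralizer (cl Z H : Set G) ≤ B :=
  (inf_le_inf_left _ (centralizer_le f.V_le)).trans a.cs.le

/-- `U ≤ O₂(C_G(Z))` -/
theorem U_low : cl (VB Z B) X ≤ o2 (centralizer (Z : Set G)) := by
  refine cl_le fun x hx => ?_
  have h1 := cj_mono x a.low
  rwa [cj_eq_of_mem_normalizer (le_normalizer_o2 _ (f.XZ' hx))] at h1

/-- A subgroup `K` of `B`, closed under the fusion of `H` in `S` and inside `O₂(X)`, lies in `O₂(H)`. -/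
theorem core {K : Subgroup G} (hKB : K ≤ B) (hcl : ∀ g ∈ H, cj g K ≤ (S : Subgroup G) → cj g K ≤ K)
    (hX : K ≤ o2 X) : K ≤ o2 H := by
  have hKS : K ≤ (S : Subgroup G) := hKB.trans a.wc.le
  refine le_o2 (hKS.trans (f.SH a)) (S.isPGroup'.to_le hKS) (f.gen.trans (sup_le ?_ ?_))
  · intro m hm
    refine mem_normalizer_of_map_le (hcl m (f.NB hm) ?_)
    have h1 := cj_mono m hKB
    rw [cj_eq_of_mem_normalizer hm] at h1
    exact h1.trans a.wc.le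
  · intro x hx
    refine mem_normalizer_of_map_le (hcl x (f.XH hx) ?_)
    have h1 := cj_mono x hX
    rw [cj_eq_of_mem_normalizer (le_normalizer_o2 _ hx)] at h1
    exact h1.trans ((o2_le_syl f.syl).trans f.TS)

/-- the same for a family of subgroups of `S`: a member which is not in `O₂(X)` -/
theorem exists_nle {Fam : Set (Subgroup G)} (hKB : ∀ D ∈ Fam, D ≤ B)
    (hcl : ∀ g ∈ H, (∀ D ∈ Fam, cj g D ≤ (S : Subgroup G)) → ∀ D ∈ Fam, cj g D ≤ sSup Fam)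
    {D₀ : Subgroup G} (hD₀ : D₀ ∈ Fam) (hne : ¬ D₀ ≤ centralizer (cl Z H : Set G)) :
    ∃ D ∈ Fam, ¬ D ≤ o2 X := by
  by_contra hcon
  push Not at hcon
  have h1 := f.core a (K := sSup Fam) (sSup_le hKB) (fun g hg hgS => ?_) (sSup_le hcon)
  · exact hne (((le_sSup hD₀).trans h1).trans (o2_cent (f.Zz a)))
  · rw [cj_sSup]
    exact iSup_le fun D => hcl g hg (fun D hD => (cj_mono g (le_sSup hD)).trans hgS) D D.2

/-- **(γ)** `V_H` is FF. -/
theorem gamma (hff : ¬ NotFF (cl Z H)) :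
    ∃ A, Opt (cl Z H) A ∧ A ≤ B ∧ ¬ A ≤ o2 X ∧ OffM (cl (VB Z B) X) A := by
  have hSH := f.SH a
  have hVc := cl_cent (f.Zz a)
  -- best offenders centralise `V`
  have hAV : ∀ A, Opt (cl Z H) A → A ≤ (S : Subgroup G) → A ≤ B := by
    intro A hA hAS
    refine le_trans (le_inf hAS ?_) a.cs.le
    by_contra hne
    have hoff := offM_of_opt hA hVc f.V_le hne
    have h3 := a.nff A hA.pg (hAS.trans a.lines.S_le) hoff.sq hoff.comm hne
    exact absurd (FFThm.relIndex_le_iff.1 hoff.le) (not_le.2 h3)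
  obtain ⟨A0, hA0⟩ := exists_opt hff
  obtain ⟨n, hn, hnS⟩ := FFThm.exists_conj_le S (hSH.trans (le_normalizer_cl _ _)) hA0.pg hA0.norm
  obtain ⟨D, hD, hDX⟩ := f.exists_nle a
    (Fam := {D | D = (S : Subgroup G) ⊓ centralizer (cl Z H : Set G) ∨
      Opt (cl Z H) D ∧ D ≤ (S : Subgroup G)}) (by
      rintro D (rfl | ⟨h1, h2⟩)
      · exact f.cs_le a
      · exact hAV D h1 h2) (by
      rintro g hg hgS D (rfl | ⟨h1, h2⟩)
      · refine le_trans (le_inf (hgS _ (Or.inl rfl)) ?_) (le_sSup (Or.inl rfl))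
        rw [cj_inf, cj_centralizer, cj_eq_of_mem_normalizer (le_normalizer_cl _ _ hg)]
        exact inf_le_right
      · exact le_sSup (a := cj g D) (Or.inr ⟨h1.cj (le_normalizer_cl _ _ hg), hgS D (Or.inr ⟨h1, h2⟩)⟩))
    (D₀ := cj n A0) (Or.inr ⟨hA0.cj hn, hnS⟩) (hA0.cj hn).ne
  rcases hD with rfl | ⟨h1, h2⟩
  · exfalso
    apply hDX
    refine le_trans (le_inf ((f.cs_le a).trans f.BT) ?_) (f.cent_U a)
    exact inf_le_right.trans (centralizer_le f.U_le)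
  · have h3 := hAV D h1 h2
    refine ⟨D, h1, h3, hDX, offM_of_opt h1 hVc f.U_le fun h0 => ?_⟩
    exact hDX ((le_inf (h3.trans f.BT) h0).trans (f.cent_U a))

/-- `V_H ≤ V'` -/
theorem cl_le_V' (hn : NotFF (cl Z H)) : cl Z H ≤ VL (S : Subgroup G) Z (LH (S : Subgroup G) Z H) := by
  have h1 := (root_LH (f.SH a) (f.Zz a) a.Zne a.Zc hn).cl_le_V
  rwa [cl_LH (f.SH a)] at h1

/-- `B' ≤ C_S(V_H)` -/
theorem WH_le' : WH (S : Subgroup G) Z (LH (S : Subgroup G) Z H) ≤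
    (S : Subgroup G) ⊓ centralizer (cl Z H : Set G) := by
  have h1 := WH_le (S : Subgroup G) Z (LH (S : Subgroup G) Z H)
  unfold QL at h1
  rwa [cl_LH (f.SH a)] at h1

theorem WH_le_B : WH (S : Subgroup G) Z (LH (S : Subgroup G) Z H) ≤ B := (f.WH_le' a).trans (f.cs_le a)

/-- **(β)** `V_H` is not FF, its w.c. closure `V'` is not in `O₂(C_G(Z))`. -/
theorem beta (hG : IsCharacteristicTwoType G) (hOff : StmtOff G) (hSne : (S : Subgroup G) ≠ ⊥)
    (hn : NotFF (cl Z H))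
    (hV : ¬ VL (S : Subgroup G) Z (LH (S : Subgroup G) Z H) ≤ o2 (centralizer (Z : Set G))) :
    ∃ F, MaxBad (VL (S : Subgroup G) Z (LH (S : Subgroup G) Z H)) F ∧
      Flat.WW (VL (S : Subgroup G) Z (LH (S : Subgroup G) Z H)) F ≤ B ∧
      ¬ Flat.WW (VL (S : Subgroup G) Z (LH (S : Subgroup G) Z H)) F ≤ o2 X ∧
      OffM (cl (VB Z B) X) (Flat.WW (VL (S : Subgroup G) Z (LH (S : Subgroup G) Z H)) F) := by
  have h := root_LH (f.SH a) (f.Zz a) a.Zne a.Zc hn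
  set V' := VL (S : Subgroup G) Z (LH (S : Subgroup G) Z H) with hV'
  obtain ⟨F0, hF0, hS0, hne0⟩ := exists_WW hG hSne h hV
  rw [cl_LH (f.SH a)] at hne0
  have hWB : ∀ F, MaxBad V' F → Flat.WW V' F ≤ (S : Subgroup G) → Flat.WW V' F ≤ B := by
    intro F hF hFS
    refine le_trans (le_inf hFS ?_) a.cs.le
    by_contra hne
    have hoff := off_of hG hOff h hF hFS (f.V_le.trans (f.cl_le_V' a hn)) a.low hne
    have h3 := a.nff _ (WW_pgroup _ _) (hFS.trans a.lines.S_le) hoff.sq hoff.comm hne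
    exact absurd (FFThm.relIndex_le_iff.1 hoff.le) (not_le.2 h3)
  obtain ⟨D, hD, hDX⟩ := f.exists_nle a
    (Fam := {D | D = WH (S : Subgroup G) Z (LH (S : Subgroup G) Z H) ∨
      ∃ F, MaxBad V' F ∧ Flat.WW V' F = D ∧ Flat.WW V' F ≤ (S : Subgroup G)}) (by
      rintro D (rfl | ⟨F, hF, rfl, hFS⟩)
      · exact f.WH_le_B a
      · exact hWB F hF hFS) (by
      intro g hg hgS
      have hgM : g ∈ ML (S : Subgroup G) Z (LH (S : Subgroup G) Z H) := mem_ML_of_le (hgS _ (Or.inl rfl))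
      rintro D (rfl | ⟨F, hF, rfl, hFS⟩)
      · rw [cj_eq_of_mem_normalizer hgM]
        exact le_sSup (Or.inl rfl)
      · have h1 := WW_cj (F := F) (ML_le_norm_V _ _ _ hgM)
        have h2 := hgS _ (Or.inr ⟨F, hF, rfl, hFS⟩)
        rw [← h1] at h2 ⊢
        exact le_sSup (Or.inr ⟨cj g F, hF.cj (ML_le_norm_V _ _ _ hgM), rfl, h2⟩))
    (D₀ := Flat.WW V' F0) (Or.inr ⟨F0, hF0, rfl, hS0⟩) hne0
  rcases hD with rfl | ⟨F, hF, rfl, hFS⟩
  · exfalso
    apply hDX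
    refine le_trans (le_inf ((f.WH_le_B a).trans f.BT) ?_) (f.cent_U a)
    exact (f.WH_le' a).trans (inf_le_right.trans (centralizer_le f.U_le))
  · have h3 := hWB F hF hFS
    refine ⟨F, hF, h3, hDX, off_of hG hOff h hF hFS (f.U_le.trans (f.cl_le_V' a hn)) (f.U_low a)
      fun h0 => ?_⟩
    exact hDX ((le_inf (h3.trans f.BT) h0).trans (f.cent_U a))

/-- `V_H` is not FF, `V' ≤ O₂(C_G(Z))`: `B'` is admissible and smaller. -/
theorem closed (hn : NotFF (cl Z H))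
    (hV : VL (S : Subgroup G) Z (LH (S : Subgroup G) Z H) ≤ o2 (centralizer (Z : Set G))) :
    Adm S Z L (WH (S : Subgroup G) Z (LH (S : Subgroup G) Z H)) ∧
      WH (S : Subgroup G) Z (LH (S : Subgroup G) Z H) ≤ B ∧
      WH (S : Subgroup G) Z (LH (S : Subgroup G) Z H) ≠ B := by
  have h := root_LH (f.SH a) (f.Zz a) a.Zne a.Zc hn
  have h1 := Adm.of_root h hV
  refine ⟨⟨a.Zne, a.Zc, h1.wc, (f.WH_le_B a).trans a.le, h1.cs, h1.comm, h1.sq, h1.nff, h1.low⟩, f.WH_le_B a,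
    fun h0 => ?_⟩
  apply f.nle
  have h2 : cl Z H ≤ VB Z B := by
    have h3 := f.cl_le_V' a hn
    have h4 : VL (S : Subgroup G) Z (LH (S : Subgroup G) Z H) =
        VB Z (WH (S : Subgroup G) Z (LH (S : Subgroup G) Z H)) := rfl
    rwa [h4, h0] at h3
  have h3 : cl (VB Z B) X = VB Z B :=
    le_antisymm (f.U_le.trans h2) (le_cl _ _)
  have h4 := le_normalizer_cl (VB Z B) X
  rwa [h3] at h4

/-- **THE LOCAL EXIT**: `B` minimal admissible: `γ` or `β`. -/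
theorem main (hG : IsCharacteristicTwoType G) (hOff : StmtOff G) (hSne : (S : Subgroup G) ≠ ⊥)
    (hmin : ∀ B', Adm S Z L B' → B' ≤ B → B' = B) :
    (¬ NotFF (cl Z H) ∧
      ∃ A, Opt (cl Z H) A ∧ A ≤ B ∧ ¬ A ≤ o2 X ∧ OffM (cl (VB Z B) X) A) ∨
    (NotFF (cl Z H) ∧
      ¬ VL (S : Subgroup G) Z (LH (S : Subgroup G) Z H) ≤ o2 (centralizer (Z : Set G)) ∧
      ∃ F, MaxBad (VL (S : Subgroup G) Z (LH (S : Subgroup G) Z H)) F ∧
        Flat.WW (VL (S : Subgroup G) Z (LH (S : Subgroup G) Z H)) F ≤ B ∧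
        ¬ Flat.WW (VL (S : Subgroup G) Z (LH (S : Subgroup G) Z H)) F ≤ o2 X ∧
        OffM (cl (VB Z B) X) (Flat.WW (VL (S : Subgroup G) Z (LH (S : Subgroup G) Z H)) F)) := by
  by_cases hn : NotFF (cl Z H)
  · by_cases hV : VL (S : Subgroup G) Z (LH (S : Subgroup G) Z H) ≤ o2 (centralizer (Z : Set G))
    · obtain ⟨h1, h2, h3⟩ := f.closed a hn hV
      exact absurd (hmin _ h1 h2) h3
    · exact Or.inr ⟨hn, hV, f.beta a hG hOff hSne hn hV⟩
  · exact Or.inl ⟨hn, f.gamma a hn⟩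

/-- **THE LOCAL EXIT**, short form: some `A ≤ B`, `A ≰ O₂(X)`, offends on `U = ⟨V^X⟩`. -/
theorem exists_off (hG : IsCharacteristicTwoType G) (hOff : StmtOff G) (hSne : (S : Subgroup G) ≠ ⊥)
    (hmin : ∀ B', Adm S Z L B' → B' ≤ B → B' = B) :
    ∃ A, A ≤ B ∧ ¬ A ≤ o2 X ∧ OffM (cl (VB Z B) X) A := by
  rcases f.main a hG hOff hSne hmin with ⟨-, A, -, h1, h2, h3⟩ | ⟨-, -, F, -, h1, h2, h3⟩
  · exact ⟨A, h1, h2, h3⟩
  · exact ⟨_, h1, h2, h3⟩

/-! ### `⟨V^⟨S,X⟩⟩` -/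

omit [Finite G] a in
/-- `⟨S, X⟩ ≤ C_G(Ω₁(Z(S)))` -/
theorem SX_cent : (S : Subgroup G) ⊔ X ≤ centralizer (zc (S : Subgroup G) : Set G) :=
  sup_le (le_centralizer_zc _) f.XZ

/-- `⟨S, X⟩ ≤ C_G(Z)` -/
theorem SX_cent' : (S : Subgroup G) ⊔ X ≤ centralizer (Z : Set G) :=
  sup_le ((le_centralizer_zc _).trans (centralizer_le a.Zc)) f.XZ'

/-- `⟨V^⟨S,X⟩⟩ ≤ O₂(C_G(Z))` -/
theorem Y_low : cl (VB Z B) ((S : Subgroup G) ⊔ X) ≤ o2 (centralizer (Z : Set G)) := by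
  refine cl_le fun x hx => ?_
  have h1 := cj_mono x a.low
  rwa [cj_eq_of_mem_normalizer (le_normalizer_o2 _ (f.SX_cent' a hx))] at h1

theorem Y_le_S : cl (VB Z B) ((S : Subgroup G) ⊔ X) ≤ (S : Subgroup G) :=
  (f.Y_low a).trans (o2_le_syl (syl_of_le ((le_centralizer_zc _).trans (centralizer_le a.Zc))))

/-- `⟨V^⟨S,X⟩⟩ ≤ V_H` -/
theorem Y_le : cl (VB Z B) ((S : Subgroup G) ⊔ X) ≤ cl Z H := by
  refine cl_le fun x hx => ?_
  have h1 := cj_mono x f.V_le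
  rwa [cj_eq_of_mem_normalizer (le_normalizer_cl _ _ ((sup_le (f.SH a) f.XH) hx))] at h1

theorem Y_comm : cl (VB Z B) ((S : Subgroup G) ⊔ X) ≤
    centralizer (cl (VB Z B) ((S : Subgroup G) ⊔ X) : Set G) := by
  intro x hx
  rw [mem_centralizer_iff]
  intro y hy
  exact (mem_centralizer_iff.1 (cl_cent (f.Zz a) (f.Y_le a hx)) y (f.Y_le a hy))

theorem Y_sq : ∀ y ∈ cl (VB Z B) ((S : Subgroup G) ⊔ X), y ^ 2 = 1 := fun y hy =>
  cl_sq (f.Zz a) y (f.Y_le a hy)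

omit [Finite G] f a in
theorem U_le_Y : cl (VB Z B) X ≤ cl (VB Z B) ((S : Subgroup G) ⊔ X) :=
  cl_le fun _ hx => cj_le_cl (le_sup_right (a := (S : Subgroup G)) hx)

omit [Finite G] f a in
theorem V_le_Y : VB Z B ≤ cl (VB Z B) ((S : Subgroup G) ⊔ X) := le_cl _ _

/-- `C_{⟨V^⟨S,X⟩⟩}(S) ≤ Z` -/
theorem Y_inf_cent : cl (VB Z B) ((S : Subgroup G) ⊔ X) ⊓ centralizer (S : Set G) ≤
    zc (S : Subgroup G) := by
  rintro y ⟨hy, hyc⟩
  exact Cfsg.Agent.ZN.ChoiceBase.mem_zc.2 ⟨f.Y_le_S a hy, f.Y_sq a y hy, fun s hs => mem_centralizer_iff.1 hyc s hs⟩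

/-- maximisers on `⟨V^⟨S,X⟩⟩` in `S` centralise `V` -/
theorem max_le {D : Subgroup G} (hD : Ok (cl (VB Z B) ((S : Subgroup G) ⊔ X)) D)
    (hm : ∀ C, Ok (cl (VB Z B) ((S : Subgroup G) ⊔ X)) C →
      ff (cl (VB Z B) ((S : Subgroup G) ⊔ X)) C ≤
        ff (cl (VB Z B) ((S : Subgroup G) ⊔ X)) D) (hDS : D ≤ (S : Subgroup G)) :
    D ≤ centralizer (VB Z B : Set G) := by
  by_contra hne
  have hoff := offM_of_max hD hm (f.Y_comm a) V_le_Y hne
  have h3 := a.nff D hD.pg (hDS.trans a.lines.S_le) hoff.sq hoff.comm hne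
  exact absurd (FFThm.relIndex_le_iff.1 hoff.le) (not_le.2 h3)

end Fr

end Cfsg.Agent.Omega.NO3b.ZP
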