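import Cfsg.Agent.Omega.NO3b.ZP.LocalExit

/-!
# The frame `ZP` with `Z = Ω₁(Z(S))` is the frame of NotFF

`cl (zc S) L = zl S L`; flags `F ≥ Ω₁(Z(S))`, panels, admissible subgroups and local situations of `Alpha.lean`,
`Exit/MaxV.lean`, `Exit/LocalExit.lean` are those of `ZP` for `Z = zc S`.
-/

set_option autoImplicit false

namespace Cfsg.Agent.Omega.NO3b.ZP

open Subgroup Cfsg
open Cfsg.Agent.ZN (o2 zc zl jj zj)
open Cfsg.Agent.ZN.ChoiceSit (Syl exists_syl syl_conj o2_le_syl)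
open Cfsg.Agent.Omega.NO3b.EZero (NotFF cl)

universe u

variable {G : Type u} [Group G]

theorem cl_zc (S L : Subgroup G) : cl (zc S) L = zl S L := rfl

theorem VB_zc (S B : Subgroup G) : VB (zc S) B = Exit.VB S B := rfl

theorem QL_zc (S L : Subgroup G) : QL S (zc S) L = Wc.QL S L := rfl

theorem WH_zc (S L : Subgroup G) : WH S (zc S) L = Wc.WH S L := rfl

theorem ML_zc (S L : Subgroup G) : ML S (zc S) L = Wc.ML S L := rfl

theorem VL_zc (S L : Subgroup G) : VL S (zc S) L = Wc.VL S L := rfl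

theorem LH_zc (S L : Subgroup G) : LH S (zc S) L = Exit.LH S L := rfl

variable [Finite G] {S : Sylow 2 G} {L B V F T X H J : Subgroup G}

theorem CF_of_zc (h : zc (S : Subgroup G) ≤ F) : CF S F = centralizer (F : Set G) :=
  inf_eq_left.2 (centralizer_le h)

theorem fl_iff (h : zc (S : Subgroup G) ≤ F) : Fl S V F T ↔ Alpha.Fl S V F T := by
  constructor
  · intro f
    refine ⟨f.ne, f.le, ?_, fun D hFD hD hn => f.max D hFD hD ?_, f.T_le, ?_⟩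
    · have h1 := f.nle
      rwa [CF_of_zc h] at h1
    · rwa [CF_of_zc (h.trans hFD)]
    · have h1 := f.syl
      rwa [CF_of_zc h] at h1
  · intro f
    refine ⟨f.ne, f.le, ?_, fun D hFD hD hn => f.max D hFD hD ?_, f.T_le, ?_⟩
    · rw [CF_of_zc h]; exact f.nle
    · rwa [CF_of_zc (h.trans hFD)] at hn
    · rw [CF_of_zc h]; exact f.syl

theorem par_iff (h : zc (S : Subgroup G) ≤ F) : Par S V F T X ↔ EZero.Par V F T X :=
  ⟨fun p => p.toPar, fun p => ⟨p, p.le.trans (centralizer_le h)⟩⟩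

theorem lines_iff (hne : zc (S : Subgroup G) ≠ ⊥) : LinesZ S (zc (S : Subgroup G)) J V ↔ NoEmp.Lines S J V :=
  ⟨fun h => ⟨h.JS, h.wc, h.NJ, h.JV, h.comm, h.sq, h.ZV, h.nff, h.low⟩,
    fun h => ⟨h.JS, h.wc, h.NJ, h.JV, h.comm, h.sq, hne, le_rfl, h.ZV, h.nff, h.low⟩⟩

theorem root_iff (hne : zc (S : Subgroup G) ≠ ⊥) : Root S (zc (S : Subgroup G)) L ↔ Wc.Root S L :=
  ⟨fun h => ⟨h.le, h.comm, h.sq, h.nff, h.cs⟩, fun h => ⟨h.le, hne, le_rfl, h.comm, h.sq, h.nff, h.cs⟩⟩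

theorem adm_iff (hne : zc (S : Subgroup G) ≠ ⊥) : Adm S (zc (S : Subgroup G)) L B ↔ Exit.Adm S L B :=
  ⟨fun h => ⟨h.wc, h.le, h.cs, h.comm, h.sq, h.nff, h.low⟩,
    fun h => ⟨hne, le_rfl, h.wc, h.le, h.cs, h.comm, h.sq, h.nff, h.low⟩⟩

omit [Finite G] in
theorem fr_iff : Fr S (zc (S : Subgroup G)) B H X T ↔ Exit.Fr S B H X T :=
  ⟨fun h => ⟨h.NB, h.XH, h.gen, h.char2, h.TS, h.BT, h.syl, h.mp, h.XZ, h.nle⟩,
    fun h => ⟨h.NB, h.XH, h.gen, h.char2, h.TS, h.BT, h.syl, h.mp, h.XZ, h.XZ, h.nle⟩⟩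

end Cfsg.Agent.Omega.NO3b.ZP
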