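import Cfsg.Agent.Omega.NO3b.ZP.AllLocal
import Cfsg.Agent.Omega.NO3b.ZP.Chain.Sit
import Cfsg.Agent.Omega.NO3b.Exit.TightLoc

/-!
# The frame of NotFF for `Z ≤ Ω₁(Z(S))`: TIGHT for the panels of the local exit (`Exit/TightLoc.lean`)

* `LocG.tight_gamma` : `V_H = ⟨Z^H⟩`, `H = ⟨N_G(B), X⟩` FF: TIGHT on `V_H`;
* `LocG.tight_Y` : TIGHT on `⟨V^⟨S,X⟩⟩`, always.
-/

set_option autoImplicit false
set_option linter.unusedSectionVars false

namespace Cfsg.Agent.Omega.NO3b.ZP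

open Subgroup Cfsg
open Cfsg.Agent.ZN (o2 zc zl jj zj)
open Cfsg.Agent.Omega.NO3b.EZero (NotFF cl le_cl le_normalizer_cl)
open Cfsg.Agent.Omega.NO3b.K0.Mix (Two)
open Cfsg.Agent.Omega.NOThreeL.Star (Opt)
open Cfsg.Agent.Omega.NO3b.Exit.Bridge (Sit TightOn)

universe u

variable {G : Type u} [Group G] [Finite G] {S : Sylow 2 G} {Z J M B V F T X U : Subgroup G}

namespace LocG

variable (h : LocG S Z M B)
include h

/-- `X` on `V_H`, `H = ⟨N_G(B), X⟩` -/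
theorem sit_H (_hG : IsCharacteristicTwoType G) {F T X : Subgroup G}
    (f : Fl S (VB Z B) F T) (hZF : Z ≤ F) (p : Par S (VB Z B) F T X) :
    Sit (VB Z B) F T X (cl Z (normalizer (B : Set G) ⊔ X)) := by
  have fr := h.fr F T X f hZF p
  exact sit_of_fl h.adm.lines f p (cl_cent (fr.Zz h.adm))
    (cl_sq (fr.Zz h.adm)) fr.V_le (fr.XH.trans (le_normalizer_cl _ _))

/-- **(γ)**: TIGHT on `V_H` -/
theorem tight_gamma (hG : IsCharacteristicTwoType G) (hSne : (S : Subgroup G) ≠ ⊥) {F T X : Subgroup G}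
    (f : Fl S (VB Z B) F T) (hZF : Z ≤ F) (p : Par S (VB Z B) F T X)
    (hff : ¬ NotFF (cl Z (normalizer (B : Set G) ⊔ X))) :
    ∃ A, TightOn B (VB Z B) F T X (cl Z (normalizer (B : Set G) ⊔ X)) A := by
  have fr := h.fr F T X f hZF p
  obtain ⟨A, hA, hAB, hAX, -⟩ := fr.gamma h.adm hff
  exact ⟨A, (h.sit_H hG f hZF p).tightOn hA hAB (hAB.trans fr.BT) hAX (h.two hG hSne f hZF p)⟩

/-- `X` on `⟨V^⟨S,X⟩⟩` -/
theorem sit_Y (_hG : IsCharacteristicTwoType G) {F T X : Subgroup G}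
    (f : Fl S (VB Z B) F T) (hZF : Z ≤ F) (p : Par S (VB Z B) F T X) :
    Sit (VB Z B) F T X (cl (VB Z B) ((S : Subgroup G) ⊔ X)) := by
  have fr := h.fr F T X f hZF p
  have hY : cl (VB Z B) ((S : Subgroup G) ⊔ X) ≤ cl Z (normalizer (B : Set G) ⊔ X) := fr.Y_le h.adm
  exact sit_of_fl h.adm.lines f p (fr.Y_comm h.adm)
    (fun u hu => cl_sq (fr.Zz h.adm) u (hY hu)) (le_cl _ _)
    (le_sup_right.trans (le_normalizer_cl _ _))

/-- **TIGHT on `⟨V^⟨S,X⟩⟩`**, in every case. -/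
theorem tight_Y (hG : IsCharacteristicTwoType G) (hSne : (S : Subgroup G) ≠ ⊥) {F T X : Subgroup G}
    (f : Fl S (VB Z B) F T) (hZF : Z ≤ F) (p : Par S (VB Z B) F T X) :
    ∃ A, TightOn B (VB Z B) F T X (cl (VB Z B) ((S : Subgroup G) ⊔ X)) A := by
  have fr := h.fr F T X f hZF p
  obtain ⟨A, hA, hAB, hAX⟩ := h.exists_optY hG hSne f hZF p
  exact ⟨A, (h.sit_Y hG f hZF p).tightOn hA hAB (hAB.trans fr.BT) hAX (h.two hG hSne f hZF p)⟩

end LocG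

end Cfsg.Agent.Omega.NO3b.ZP
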